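import Groth.Agent.Curves.K756.LatSh
import Groth.Agent.PerfB.ExactRestrict

/-!
# Sheaves given by families of submodules of the function field (rank one)

`X` integral, `K = X.functionField`, `P : Fam X` a family of `O_{X,x}`-submodules of `K`; `mod P` is the sheaf of
`K756.LatSh`, whose sections over a nonempty open `V` are the elements of `K` lying in `P x` for all `x ∈ V`.

* `mor h H : mod P ⟶ mod P'` : multiplication by `h ∈ K` (`H : h * P x ⊆ P' x`); `mor_comp`, `mor_congr`, `incl`,
  `mono_mor`, `isIso_restrict_mor` (iso over an open over which `h * P = P'`), `isZero_restrict`.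
* `secs V P : AddSubgroup K`, `secEquiv : Γ(mod P, V) ≃+ secs V P` for nonempty `V`.
* `ofId (e : P = P') : mod P ≅ mod P'`, `mod_congr_on : (mod P)|_V ≅ (mod P')|_V` if `P = P'` on `V`.
* `unitR x : Subgroup Kˣ` the units of `O_{X,x}`; `CD X : Subgroup (X → Kˣ)` the Cartier data: `g y / g x` is a unit of
  `O_{X,y}` for `y` near `x`. `lat g x = O_{X,x} g x`; `lat g` is `Nice` of rank one for `g ∈ CD X`.
-/

set_option autoImplicit false
set_option linter.unusedSectionVars false
set_option linter.unusedVariables false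
universe u
open CategoryTheory CategoryTheory.Limits AlgebraicGeometry TopologicalSpace Opposite

noncomputable section

namespace K577.Lat

open Groth.Agent Groth.Agent.CycB K475.GenStalk K756.LatSh

variable {X : Scheme.{u}} [IsIntegral X]

/-- Families of submodules of the function field over the local rings. -/
abbrev Fam (X : Scheme.{u}) [IsIntegral X] : Type u :=
  ∀ x : X, Submodule (X.presheaf.stalk x) X.functionField

variable {P P' P'' : Fam X}

theorem mul_smul_stalk (h : X.functionField) (x : X) (r : X.presheaf.stalk x) (w : X.functionField) :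
    h * (r • w) = r • (h * w) := by
  rw [Algebra.smul_def, Algebra.smul_def, mul_left_comm]

/-! ### Multiplication by elements of the function field -/

/-- Multiplication by `h` on sections. -/
def app (h : X.functionField) (H : ∀ x, ∀ w ∈ P x, h * w ∈ P' x) (U : X.Opens) : Γ(mod P, U) →+ Γ(mod P', U) where
  toFun s := ⟨fun x => h * s.1 x, fun x y => congrArg (h * ·) (apply_eq s x y), fun x => H x.1 _ (apply_mem s x)⟩
  map_zero' := ext' fun _ => mul_zero h
  map_add' _ _ := ext' fun _ => mul_add h _ _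

@[simp] theorem app_apply (h : X.functionField) (H : ∀ x, ∀ w ∈ P x, h * w ∈ P' x) {U : X.Opens}
    (s : Γ(mod P, U)) (x : U) : (app h H U s).1 x = h * s.1 x := rfl

/-- Multiplication by `h`. -/
def mor (h : X.functionField) (H : ∀ x, ∀ w ∈ P x, h * w ∈ P' x) : mod P ⟶ mod P' :=
  ⟨PresheafOfModules.homMk
    { app := fun U => AddCommGrpCat.ofHom (app h H U.unop)
      naturality := fun {U V} i => by
        ext s
        rfl }
    (fun U r s => ext' (U := U.unop) fun x => mul_smul_stalk h x.1 _ _)⟩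

theorem mor_app (h : X.functionField) (H : ∀ x, ∀ w ∈ P x, h * w ∈ P' x) {U : X.Opens}
    (s : Γ(mod P, U)) : (mor h H).app U s = app h H U s := rfl

@[simp] theorem mor_app_apply (h : X.functionField) (H : ∀ x, ∀ w ∈ P x, h * w ∈ P' x) {U : X.Opens}
    (s : Γ(mod P, U)) (x : U) : ((mor h H).app U s : Γ(mod P', U)).1 x = h * s.1 x := rfl

/-- Morphisms between these sheaves agreeing on sections are equal. -/
theorem hom_ext_sec {M : X.Modules} {f g : M ⟶ mod P} (h : ∀ (U : X.Opens) (s : Γ(M, U)) (x : U),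
    (f.app U s : Γ(mod P, U)).1 x = (g.app U s : Γ(mod P, U)).1 x) : f = g :=
  Scheme.Modules.hom_ext _ _ fun U => ConcreteCategory.hom_ext _ _ fun s => ext' fun x => h U s x

theorem comp_app {M N Q : X.Modules} (f : M ⟶ N) (g : N ⟶ Q) (U : X.Opens) (s : Γ(M, U)) :
    (f ≫ g).app U s = g.app U (f.app U s) := rfl

theorem mor_comp (h h' : X.functionField) (H : ∀ x, ∀ w ∈ P x, h * w ∈ P' x)
    (H' : ∀ x, ∀ w ∈ P' x, h' * w ∈ P'' x) :
    mor h H ≫ mor h' H' = mor (h' * h) (fun x w hw => by rw [mul_assoc]; exact H' x _ (H x w hw)) :=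
  hom_ext_sec fun U s x => (mul_assoc _ _ _).symm

theorem mor_congr {h h' : X.functionField} (e : h = h') (H : ∀ x, ∀ w ∈ P x, h * w ∈ P' x) :
    mor h H = mor h' (e ▸ H) := by
  subst e
  rfl

theorem mor_one : mor (P := P) (P' := P) 1 (fun _ _ hw => by rwa [one_mul]) = 𝟙 _ :=
  hom_ext_sec fun U s x => one_mul _

theorem mor_comm (h h' : X.functionField) {P₁ P₂ P₃ : Fam X} (H : ∀ x, ∀ w ∈ P x, h * w ∈ P₁ x)
    (H₁ : ∀ x, ∀ w ∈ P₁ x, h' * w ∈ P₃ x) (H' : ∀ x, ∀ w ∈ P x, h' * w ∈ P₂ x)
    (H₂ : ∀ x, ∀ w ∈ P₂ x, h * w ∈ P₃ x) : mor h H ≫ mor h' H₁ = mor h' H' ≫ mor h H₂ := by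
  rw [mor_comp, mor_comp]
  exact mor_congr (mul_comm _ _) _

/-- The inclusion of a smaller family. -/
def incl (H : ∀ x, P x ≤ P' x) : mod P ⟶ mod P' := mor 1 (fun x w hw => by rw [one_mul]; exact H x hw)

@[simp] theorem incl_app_apply (H : ∀ x, P x ≤ P' x) {U : X.Opens} (s : Γ(mod P, U)) (x : U) :
    ((incl H).app U s : Γ(mod P', U)).1 x = s.1 x := one_mul _

theorem incl_comp_mor {P₁ P₂ : Fam X} (h : X.functionField) (H : ∀ x, P x ≤ P' x)
    (H₁ : ∀ x, ∀ w ∈ P' x, h * w ∈ P₂ x) (H' : ∀ x, ∀ w ∈ P x, h * w ∈ P₁ x) (H₂ : ∀ x, P₁ x ≤ P₂ x) :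
    incl H ≫ mor h H₁ = mor h H' ≫ incl H₂ := mor_comm _ _ _ _ _ _

/-- Multiplication by a nonzero element is a monomorphism. -/
theorem mono_mor {h : X.functionField} (h0 : h ≠ 0) (H : ∀ x, ∀ w ∈ P x, h * w ∈ P' x) : Mono (mor h H) := by
  refine ⟨fun {M} f g e => hom_ext_sec fun U s x => ?_⟩
  have h1 : (((f ≫ mor h H).app U s : Γ(mod P', U))).1 x = (((g ≫ mor h H).app U s : Γ(mod P', U))).1 x := by rw [e]
  rw [comp_app, comp_app, mor_app_apply, mor_app_apply] at h1
  exact mul_left_cancel₀ h0 h1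

instance mono_incl (H : ∀ x, P x ≤ P' x) : Mono (incl H) := mono_mor one_ne_zero _

/-! ### Restriction to opens -/

theorem isIso_of_bijective {N N' : X.Modules} (φ : N ⟶ N')
    (h : ∀ V : X.Opens, Function.Bijective (φ.app V)) : IsIso φ := by
  rw [Scheme.Modules.Hom.isIso_iff_isIso_app]
  intro V
  rw [ConcreteCategory.isIso_iff_bijective]
  exact h V

theorem isIso_restrict {Y : Scheme.{u}} {M N : Y.Modules} (φ : M ⟶ N) (U : Y.Opens)
    (h : ∀ V : Y.Opens, V ≤ U → Function.Bijective (φ.app V)) :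
    IsIso ((Scheme.Modules.restrictFunctor U.ι).map φ) := by
  rw [Scheme.Modules.Hom.isIso_iff_isIso_app]
  intro V
  rw [ConcreteCategory.isIso_iff_bijective]
  exact h (U.ι ''ᵁ V) (by
    rintro _ ⟨y, -, rfl⟩
    exact y.2)

/-- Multiplication by `h` is bijective on sections over opens over which `h * P = P'`. -/
theorem bijective_mor_app {h : X.functionField} (h0 : h ≠ 0) (H : ∀ x, ∀ w ∈ P x, h * w ∈ P' x) {V : X.Opens}
    (hV : ∀ y ∈ V, ∀ w ∈ P' y, ∃ w' ∈ P y, h * w' = w) : Function.Bijective ((mor h H).app V) := by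
  constructor
  · intro s t e
    refine ext' fun x => mul_left_cancel₀ h0 ?_
    rw [← mor_app_apply h H s x, e, mor_app_apply]
  · intro t
    have key : ∀ x : V, h⁻¹ * t.1 x ∈ P x.1 := fun x => by
      obtain ⟨w', hw', e⟩ := hV x.1 x.2 _ (apply_mem t x)
      rw [← e, inv_mul_cancel_left₀ h0]
      exact hw'
    let s : Γ(mod P, V) := ⟨fun x => h⁻¹ * t.1 x, fun x y => congrArg (h⁻¹ * ·) (apply_eq t x y), key⟩
    exact ⟨s, ext' fun x => (mor_app_apply h H s x).trans (mul_inv_cancel_left₀ h0 _)⟩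

/-- Multiplication by `h` is an isomorphism over an open over which `h * P = P'`. -/
theorem isIso_restrict_mor {h : X.functionField} (h0 : h ≠ 0) (H : ∀ x, ∀ w ∈ P x, h * w ∈ P' x) (V : X.Opens)
    (hV : ∀ y ∈ V, ∀ w ∈ P' y, ∃ w' ∈ P y, h * w' = w) :
    IsIso ((Scheme.Modules.restrictFunctor V.ι).map (mor h H)) :=
  isIso_restrict _ _ fun _ hW => bijective_mor_app h0 H fun y hy => hV y (hW hy)

theorem isIso_restrict_incl (H : ∀ x, P x ≤ P' x) (V : X.Opens) (hV : ∀ y ∈ V, P' y ≤ P y) :
    IsIso ((Scheme.Modules.restrictFunctor V.ι).map (incl H)) :=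
  isIso_restrict_mor one_ne_zero _ V fun y hy w hw => ⟨w, hV y hy hw, one_mul _⟩

/-- Families agreeing on `V` have isomorphic restrictions to `V`. -/
def restrictIso (V : X.Opens) (h : ∀ y ∈ V, P y = P' y) :
    (Scheme.Modules.restrictFunctor V.ι).obj (mod P) ≅ (Scheme.Modules.restrictFunctor V.ι).obj (mod P') :=
  haveI := isIso_restrict_incl (P := fun x => P x ⊓ P' x) (P' := P) (fun _ => inf_le_left) V
    fun y hy => le_inf le_rfl (h y hy).le
  haveI := isIso_restrict_incl (P := fun x => P x ⊓ P' x) (P' := P') (fun _ => inf_le_right) V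
    fun y hy => le_inf (h y hy).ge le_rfl
  (asIso ((Scheme.Modules.restrictFunctor V.ι).map (incl (P := fun x => P x ⊓ P' x) (P' := P)
    fun _ => inf_le_left))).symm ≪≫
  asIso ((Scheme.Modules.restrictFunctor V.ι).map (incl (P := fun x => P x ⊓ P' x) (P' := P')
    fun _ => inf_le_right))

/-! ### Sections -/

/-- The sections of `mod P` over `V`, as elements of the function field. -/
def secs (V : X.Opens) (P : Fam X) : AddSubgroup X.functionField where
  carrier := {f | ∀ y ∈ V, f ∈ P y}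
  zero_mem' := fun y _ => (P y).zero_mem
  add_mem' := fun hf hg y hy => (P y).add_mem (hf y hy) (hg y hy)
  neg_mem' := fun hf y hy => (P y).neg_mem (hf y hy)

theorem mem_secs {V : X.Opens} {f : X.functionField} : f ∈ secs V P ↔ ∀ y ∈ V, f ∈ P y := Iff.rfl

/-- Sections over a nonempty open. -/
def secEquiv (V : X.Opens) (hV : genericPoint X ∈ V) (P : Fam X) : Γ(mod P, V) ≃+ secs V P where
  toFun s := ⟨s.1 ⟨genericPoint X, hV⟩, fun y hy => by
    rw [apply_eq s ⟨genericPoint X, hV⟩ ⟨y, hy⟩]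
    exact apply_mem s ⟨y, hy⟩⟩
  invFun f := mk V f.1 f.2
  left_inv s := ext' fun x => apply_eq s _ _
  right_inv f := rfl
  map_add' _ _ := rfl

theorem coe_secEquiv (V : X.Opens) (hV : genericPoint X ∈ V) (s : Γ(mod P, V)) (x : V) :
    (secEquiv V hV P s : X.functionField) = s.1 x := apply_eq s _ _

/-! ### Cartier data -/

/-- The units of a local ring, in the units of the function field. -/
def unitR (x : X) : Subgroup (X.functionField)ˣ :=
  (Units.map (algebraMap (X.presheaf.stalk x) X.functionField).toMonoidHom).range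

theorem mem_unitR {x : X} {a : (X.functionField)ˣ} :
    a ∈ unitR x ↔ ∃ u : (X.presheaf.stalk x)ˣ, algebraMap (X.presheaf.stalk x) X.functionField u = a := by
  constructor
  · rintro ⟨u, rfl⟩
    exact ⟨u, rfl⟩
  · rintro ⟨u, hu⟩
    exact ⟨u, Units.ext hu⟩

/-- Cartier data: `g y / g x` is a unit at `y` for `y` near `x`. -/
def CD (X : Scheme.{u}) [IsIntegral X] : Subgroup (X → (X.functionField)ˣ) where
  carrier := {g | ∀ x : X, ∃ U : X.Opens, x ∈ U ∧ ∀ y ∈ U, g y / g x ∈ unitR y}
  one_mem' := fun x => ⟨⊤, trivial, fun y _ => by simp⟩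
  mul_mem' := fun {g g'} hg hg' x => by
    obtain ⟨U, hU, h⟩ := hg x
    obtain ⟨V, hV, h'⟩ := hg' x
    refine ⟨U ⊓ V, ⟨hU, hV⟩, fun y hy => ?_⟩
    rw [Pi.mul_apply, Pi.mul_apply, mul_div_mul_comm]
    exact (unitR y).mul_mem (h y hy.1) (h' y hy.2)
  inv_mem' := fun {g} hg x => by
    obtain ⟨U, hU, h⟩ := hg x
    refine ⟨U, hU, fun y hy => ?_⟩
    rw [Pi.inv_apply, Pi.inv_apply, inv_div_inv, ← inv_div]
    exact (unitR y).inv_mem (h y hy)

theorem mem_CD {g : X → (X.functionField)ˣ} :
    g ∈ CD X ↔ ∀ x : X, ∃ U : X.Opens, x ∈ U ∧ ∀ y ∈ U, g y / g x ∈ unitR y := Iff.rfl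

/-- The family of the fractional ideals generated by `g x`. -/
def lat (g : X → (X.functionField)ˣ) : Fam X :=
  fun x => Submodule.span (X.presheaf.stalk x) {(g x : X.functionField)}

theorem mem_lat {g : X → (X.functionField)ˣ} {x : X} {w : X.functionField} :
    w ∈ lat g x ↔ ∃ r : X.presheaf.stalk x, algebraMap _ X.functionField r * g x = w := by
  rw [lat, Submodule.mem_span_singleton]
  simp only [Algebra.smul_def]

theorem mem_lat' {g : X → (X.functionField)ˣ} {x : X} {w : X.functionField} :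
    w ∈ lat g x ↔ w / g x ∈ (algebraMap (X.presheaf.stalk x) X.functionField).range := by
  rw [mem_lat, RingHom.mem_range]
  refine exists_congr fun r => ?_
  rw [eq_div_iff (Units.ne_zero _)]

theorem gen_mem_lat (g : X → (X.functionField)ˣ) (x : X) : (g x : X.functionField) ∈ lat g x :=
  Submodule.subset_span rfl

theorem lat_congr {g g' : X → (X.functionField)ˣ} {x : X} (h : g x / g' x ∈ unitR x) : lat g x = lat g' x := by
  obtain ⟨u, hu⟩ := mem_unitR.mp h
  have e : (g x : X.functionField) = u • (g' x : X.functionField) := by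
    rw [Units.smul_def, Algebra.smul_def, hu, Units.val_div_eq_div_val, div_mul_cancel₀ _ (Units.ne_zero _)]
  rw [lat, lat, e, ← Submodule.span_singleton_group_smul_eq _ u (g' x : X.functionField)]

/-- Multiplication of a fractional ideal by an element. -/
theorem mul_mem_lat_mul {g g' : X → (X.functionField)ˣ} {x : X} {a b : X.functionField} (ha : a ∈ lat g x)
    (hb : b ∈ lat g' x) : a * b ∈ lat (g * g') x := by
  obtain ⟨r, rfl⟩ := mem_lat.mp ha
  obtain ⟨s, rfl⟩ := mem_lat.mp hb
  refine mem_lat.mpr ⟨r * s, ?_⟩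
  rw [map_mul, Pi.mul_apply, Units.val_mul]
  ring

theorem mul_mem_lat_iff {g g' : X → (X.functionField)ˣ} {x : X} {b : X.functionField} :
    (g x : X.functionField) * b ∈ lat (g * g') x ↔ b ∈ lat g' x := by
  rw [mem_lat', mem_lat', Pi.mul_apply, Units.val_mul, mul_div_mul_left _ _ (Units.ne_zero _)]

theorem lat_le_iff {g g' : X → (X.functionField)ˣ} {x : X} :
    lat g x ≤ lat g' x ↔ (g x : X.functionField) ∈ lat g' x := by
  rw [lat, Submodule.span_singleton_le_iff_mem]

theorem lat_mul_mono {g g' : X → (X.functionField)ˣ} {x : X} (m : X → (X.functionField)ˣ)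
    (h : lat g x ≤ lat g' x) : lat (g * m) x ≤ lat (g' * m) x := by
  rw [lat_le_iff, mem_lat'] at h ⊢
  rwa [Pi.mul_apply, Pi.mul_apply, Units.val_mul, Units.val_mul, mul_div_mul_right _ _ (Units.ne_zero _)]

/-- The family of a Cartier datum is nice of rank one. -/
theorem nice_lat {g : X → (X.functionField)ˣ} (hg : g ∈ CD X) : Nice (lat g) 1 := by
  intro x
  obtain ⟨U, hU, h⟩ := hg x
  refine ⟨U, hU, fun _ => (g x : X.functionField), LinearIndependent.of_subsingleton 0 (Units.ne_zero _),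
    fun y hy => ?_⟩
  have h1 : lat g y = lat (fun _ => g x) y := lat_congr (h y hy)
  rw [h1, lat, Set.range_const]

theorem good_lat {g : X → (X.functionField)ˣ} (hg : g ∈ CD X) : Good (lat g) := (nice_lat hg).good

end K577.Lat

end
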