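import Groth.Agent.Divis.CartierStalk
import Mathlib.RingTheory.Localization.AtPrime.Basic
import Mathlib.RingTheory.Localization.Ideal

/-!
# Spreading out inclusions of ideals to neighbourhoods

* `exists_mul_le`: an inclusion of ideals at a prime, the first one finitely generated, holds up to a denominator.
* `exists_near`: `h i ∈ O_{X,x}` with `M_x^(k+1) ≤ (h) M_x^k + W_x` and `h i ∈ M_x` (`M`, `W` ideal sheaves) spread out
  to sections over an affine neighbourhood with the same properties at all its points.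
-/

set_option autoImplicit false
universe u
open CategoryTheory CategoryTheory.Limits AlgebraicGeometry TopologicalSpace Opposite

namespace K577.GenNear

open Groth.Agent Groth.Agent.Divis.CartierBasic

theorem exists_mul_mem {A : Type*} [CommRing A] (p : Ideal A) [p.IsPrime] (S : Type*) [CommRing S] [Algebra A S]
    [IsLocalization.AtPrime S p] (I' : Ideal A) (a : A) (h : algebraMap A S a ∈ I'.map (algebraMap A S)) :
    ∃ s ∉ p, s * a ∈ I' := by
  obtain ⟨⟨⟨i, hi⟩, ⟨t, ht⟩⟩, e⟩ := (IsLocalization.mem_map_algebraMap_iff p.primeCompl S).mp h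
  simp only at e
  rw [← map_mul] at e
  obtain ⟨c, hc⟩ := (IsLocalization.eq_iff_exists p.primeCompl S).mp e
  refine ⟨c * t, fun hm => ?_, ?_⟩
  · rcases Ideal.IsPrime.mem_or_mem inferInstance hm with h1 | h1
    · exact c.2 h1
    · exact ht h1
  · have e2 : (c : A) * t * a = c * i := by rw [mul_assoc, mul_comm t a, hc]
    rw [e2]
    exact I'.mul_mem_left _ hi

theorem exists_mul_le {A : Type*} [CommRing A] (p : Ideal A) [hp : p.IsPrime] (S : Type*) [CommRing S] [Algebra A S]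
    [IsLocalization.AtPrime S p] (I I' : Ideal A) (hI : I.FG)
    (h : I.map (algebraMap A S) ≤ I'.map (algebraMap A S)) : ∃ s ∉ p, ∀ a ∈ I, s * a ∈ I' := by
  classical
  obtain ⟨F, rfl⟩ := hI
  have h1 : ∀ a : F, ∃ s ∉ p, s * (a : A) ∈ I' := fun a =>
    exists_mul_mem p S I' a (h (Ideal.mem_map_of_mem _ (Ideal.subset_span a.2)))
  choose s hs hs' using h1
  refine ⟨∏ a, s a, fun hm => ?_, fun a ha => ?_⟩
  · obtain ⟨a, -, ha⟩ := (hp.prod_mem_iff).mp hm
    exact hs a ha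
  · have h2 : Ideal.span (F : Set A) ≤ I'.colon (Ideal.span {∏ a, s a} : Ideal A) := by
      rw [Ideal.span_le]
      intro b hb
      rw [SetLike.mem_coe, Submodule.mem_colon]
      intro c hc
      obtain ⟨r, rfl⟩ := Ideal.mem_span_singleton'.mp hc
      rw [smul_eq_mul, ← Finset.prod_erase_mul _ _ (Finset.mem_univ (⟨b, hb⟩ : F))]
      have h3 := I'.mul_mem_left (r * ∏ a ∈ Finset.univ.erase (⟨b, hb⟩ : F), s a) (hs' ⟨b, hb⟩)
      have e : b * (r * ((∏ a ∈ Finset.univ.erase (⟨b, hb⟩ : F), s a) * s ⟨b, hb⟩)) =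
        (r * ∏ a ∈ Finset.univ.erase (⟨b, hb⟩ : F), s a) * (s ⟨b, hb⟩ * b) := by ring
      rw [e]
      exact h3
    have h3 := h2 ha
    rw [Submodule.mem_colon] at h3
    have h4 := h3 _ (Ideal.mem_span_singleton_self (∏ a, s a))
    rwa [smul_eq_mul, mul_comm] at h4

variable {X : Scheme.{u}}

/-- Stalk ideals are compatible with specialization. -/
theorem stalkIdeal_specializes (I : X.IdealSheafData) {y x : X} (h : y ⤳ x) :
    stalkIdeal I y = (stalkIdeal I x).map (X.presheaf.stalkSpecializes h).hom := by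
  obtain ⟨U, hxU⟩ := exists_affine x
  have hyU : y ∈ U.1 := h.mem_open U.1.2 hxU
  rw [stalkIdeal_eq I U hxU, stalkIdeal_eq I U hyU, Ideal.map_map]
  congr 1
  rw [← CommRingCat.hom_comp, TopCat.Presheaf.germ_stalkSpecializes]

/-- The ideal generated by the germs of a family of sections. -/
noncomputable def spanGerm {ι : Type*} {U : X.Opens} (H : ι → Γ(X, U)) (x : X) (hx : x ∈ U) : Ideal (X.presheaf.stalk x) :=
  Ideal.span (Set.range fun i => X.presheaf.germ U x hx (H i))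

theorem map_span_germ {ι : Type*} {U : X.Opens} (H : ι → Γ(X, U)) (x : X) (hx : x ∈ U) :
    (Ideal.span (Set.range H)).map (X.presheaf.germ U x hx).hom = spanGerm H x hx := by
  rw [Ideal.map_span, ← Set.range_comp]
  rfl

theorem exists_sections {d : ℕ} (x : X) (h : Fin d → X.presheaf.stalk x) (N : X.Opens) (hN : x ∈ N) :
    ∃ (U : X.affineOpens) (hx : x ∈ U.1) (H : Fin d → Γ(X, U.1)), U.1 ≤ N ∧
      ∀ i, X.presheaf.germ U.1 x hx (H i) = h i := by
  choose V hV s hs using fun i => TopCat.Presheaf.exists_germ_eq X.presheaf (h i)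
  have hmem : ∀ y : X, y ∈ (Finset.univ.inf V : X.Opens) ↔ ∀ i, y ∈ V i := by
    intro y
    change y ∈ ((Finset.univ.inf V : X.Opens) : Set X) ↔ _
    rw [TopologicalSpace.Opens.coe_finset_inf]
    simp
  obtain ⟨U, hxU, h1, h2⟩ := exists_affine_le (x := x) N (Finset.univ.inf V) hN ((hmem x).mpr hV)
  have h3 : ∀ i, U.1 ≤ V i := fun i y hy => (hmem y).mp (h2 hy) i
  refine ⟨U, hxU, fun i => X.presheaf.map (homOfLE (h3 i)).op (s i), h1, fun i => ?_⟩
  rw [TopCat.Presheaf.germ_res_apply, hs]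

/-- Spreading out generators up to a power. -/
theorem exists_near [IsLocallyNoetherian X] {d : ℕ} (x : X) (h : Fin d → X.presheaf.stalk x)
    (M W : X.IdealSheafData) (k : ℕ)
    (hk : stalkIdeal M x ^ (k + 1) ≤ Ideal.span (Set.range h) * stalkIdeal M x ^ k ⊔ stalkIdeal W x)
    (hM : ∀ i, h i ∈ stalkIdeal M x) (N : X.Opens) (hN : x ∈ N) :
    ∃ (U : X.affineOpens) (hx : x ∈ U.1) (H : Fin d → Γ(X, U.1)), U.1 ≤ N ∧
      (∀ i, X.presheaf.germ U.1 x hx (H i) = h i) ∧ (∀ i, H i ∈ M.ideal U) ∧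
      ∀ (x' : X) (hx' : x' ∈ U.1),
        stalkIdeal M x' ^ (k + 1) ≤ spanGerm H x' hx' * stalkIdeal M x' ^ k ⊔ stalkIdeal W x' := by
  obtain ⟨U₁, hx₁, H₁, hUN, hH₁⟩ := exists_sections x h N hN
  have : IsNoetherianRing Γ(X, U₁.1) := IsLocallyNoetherian.component_noetherian U₁
  have hspan : (Ideal.span (Set.range H₁)).map (X.presheaf.germ U₁.1 x hx₁).hom = Ideal.span (Set.range h) :=
    (map_span_germ H₁ x hx₁).trans (congrArg (fun t => Ideal.span (Set.range t)) (funext hH₁))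
  have k₁ : (M.ideal U₁ ^ (k + 1)).map (X.presheaf.germ U₁.1 x hx₁).hom ≤
      (Ideal.span (Set.range H₁) * M.ideal U₁ ^ k ⊔ W.ideal U₁).map (X.presheaf.germ U₁.1 x hx₁).hom := by
    rw [Ideal.map_sup, Ideal.map_mul, Ideal.map_pow, Ideal.map_pow, hspan, ← stalkIdeal_eq M U₁ hx₁,
      ← stalkIdeal_eq W U₁ hx₁]
    exact hk
  have k₂ : (Ideal.span (Set.range H₁)).map (X.presheaf.germ U₁.1 x hx₁).hom ≤
      (M.ideal U₁).map (X.presheaf.germ U₁.1 x hx₁).hom := by
    rw [hspan, ← stalkIdeal_eq M U₁ hx₁, Ideal.span_le]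
    rintro _ ⟨i, rfl⟩
    exact hM i
  let := X.presheaf.algebra_section_stalk (⟨x, hx₁⟩ : U₁.1)
  have hloc : IsLocalization.AtPrime (X.presheaf.stalk x) (U₁.2.primeIdealOf ⟨x, hx₁⟩).asIdeal :=
    U₁.2.isLocalization_stalk ⟨x, hx₁⟩
  obtain ⟨s₁, hs₁, e₁⟩ := exists_mul_le (U₁.2.primeIdealOf ⟨x, hx₁⟩).asIdeal (X.presheaf.stalk x)
    (M.ideal U₁ ^ (k + 1)) (Ideal.span (Set.range H₁) * M.ideal U₁ ^ k ⊔ W.ideal U₁) (IsNoetherian.noetherian _) k₁
  obtain ⟨s₂, hs₂, e₂⟩ := exists_mul_le (U₁.2.primeIdealOf ⟨x, hx₁⟩).asIdeal (X.presheaf.stalk x)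
    (Ideal.span (Set.range H₁)) (M.ideal U₁) (IsNoetherian.noetherian _) k₂
  have hunit : ∀ x' (hx' : x' ∈ X.basicOpen (s₁ * s₂)), IsUnit (X.presheaf.germ U₁.1 x'
      (X.basicOpen_le _ hx') (s₁ * s₂)) := fun x' hx' => by
    rwa [Scheme.mem_basicOpen _ _ _ (X.basicOpen_le _ hx')] at hx'
  have hx : x ∈ X.basicOpen (s₁ * s₂) := by
    rw [Scheme.mem_basicOpen _ _ _ hx₁]
    refine IsLocalization.map_units (X.presheaf.stalk x)
      (⟨s₁ * s₂, fun hm => ?_⟩ : (U₁.2.primeIdealOf ⟨x, hx₁⟩).asIdeal.primeCompl)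
    rcases Ideal.IsPrime.mem_or_mem inferInstance hm with h1 | h1
    · exact hs₁ h1
    · exact hs₂ h1
  have hle : X.basicOpen (s₁ * s₂) ≤ U₁.1 := X.basicOpen_le _
  refine ⟨X.affineBasicOpen (s₁ * s₂), hx, fun i => X.presheaf.map (homOfLE hle).op (H₁ i), hle.trans hUN,
    fun i => ?_, fun i => ?_, fun x' hx' => ?_⟩
  · exact (TopCat.Presheaf.germ_res_apply X.presheaf _ x hx _).trans (hH₁ i)
  · rw [ideal_basicOpen]
    have h1 : IsUnit (X.presheaf.map (homOfLE hle).op (s₁ * s₂)) := RingedSpace.isUnit_res_basicOpen _ _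
    have h2 : X.presheaf.map (homOfLE hle).op (s₂ * H₁ i) ∈ (M.ideal U₁).map (X.presheaf.map (homOfLE hle).op).hom :=
      Ideal.mem_map_of_mem _ (e₂ _ (Ideal.subset_span ⟨i, rfl⟩))
    have h1' : IsUnit (X.presheaf.map (homOfLE hle).op s₁ * X.presheaf.map (homOfLE hle).op s₂) := by rwa [map_mul] at h1
    rw [map_mul] at h2
    exact (Ideal.unit_mul_mem_iff_mem _ (isUnit_of_mul_isUnit_right h1')).mp h2
  · have hx'₁ : x' ∈ U₁.1 := hle hx'
    have h1 := hunit x' hx'
    rw [map_mul] at h1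
    have h2 : spanGerm (fun i => X.presheaf.map (homOfLE hle).op (H₁ i)) x' hx' = spanGerm H₁ x' hx'₁ :=
      congrArg (fun t => Ideal.span (Set.range t))
        (funext fun i => TopCat.Presheaf.germ_res_apply X.presheaf (homOfLE hle) x' hx' (H₁ i))
    refine le_trans ?_ (sup_le_sup_right (Ideal.mul_mono_left h2.ge) _)
    rw [stalkIdeal_eq M U₁ hx'₁, stalkIdeal_eq W U₁ hx'₁, ← Ideal.map_pow, ← Ideal.map_pow, ← map_span_germ,
      ← Ideal.map_mul, ← Ideal.map_sup, Ideal.map_le_iff_le_comap]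
    intro a ha
    have h3 := Ideal.mem_map_of_mem (X.presheaf.germ U₁.1 x' hx'₁).hom (e₁ a ha)
    rw [map_mul] at h3
    exact (Ideal.unit_mul_mem_iff_mem _ (isUnit_of_mul_isUnit_left h1)).mp h3

end K577.GenNear
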