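import Groth.Agent.AdjLin.K577.Skoda
import Groth.Agent.AdjLin.K577.GenNear
import Groth.Agent.Divis.StalkPrime
import Groth.Agent.Divis.EffCartier

/-!
# The Skoda argument near a centre

`μ : Y ⟶ X` dominant, `Y`, `X` integral; `J`, `E i` effective Cartier ideals of `Y`, `E i` integral; `M`, `W` ideals of
`X` with `M O_Y = E^m`.

* `gen_at`: if `M_x^(k+1) ≤ (H) M_x^k + W_x` and `H i ∈ M_x` at `x = μ y`, then one of the `H i` generates `M O_{Y,y}` at
  points `y` of an integral `F` with `W O_Y ≤ F`, `M O_Y` not contained in `F`.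
* `main`: `M_x^(d + 1 - b) ≤ (h) + W_x`.
-/

set_option autoImplicit false
set_option linter.unusedSectionVars false
set_option linter.unusedVariables false
universe u
open CategoryTheory CategoryTheory.Limits AlgebraicGeometry TopologicalSpace Opposite

noncomputable section

namespace K577.SkodaEnd

open Groth.Agent Groth.Agent.Divis.CartierBasic Groth.Agent.Divis.CartierStalk Groth.Agent.Divis.StalkPrime
open K577.Lat K577.LatIdeal K577.SkodaCore K577.Skoda K577.GenNear K756.LatSh K475.GenStalk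

/-- A reduction of a principal ideal modulo a prime contains a generator. -/
theorem exists_gen_of_red {S : Type*} [CommRing S] [IsLocalRing S] (Q : Ideal S) [hQ : Q.IsPrime] {τ : S} (hτ : τ ∉ Q)
    {ι : Type*} [Finite ι] (h : ι → S) (hh : ∀ i, h i ∈ Ideal.span {τ}) (k : ℕ)
    (hred : Ideal.span {τ} ^ (k + 1) ≤ Ideal.span (Set.range h) * Ideal.span {τ} ^ k ⊔ Q) : ∃ i, ∃ r, τ = r * h i := by
  cases nonempty_fintype ι
  have h1 : ∀ i, ∃ s, h i = s * τ := fun i => by
    obtain ⟨s, hs⟩ := Ideal.mem_span_singleton'.mp (hh i)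
    exact ⟨s, hs.symm⟩
  choose s hs using h1
  have h2 : τ ^ (k + 1) ∈ Ideal.span (Set.range h) * Ideal.span {τ} ^ k ⊔ Q :=
    hred (Ideal.pow_mem_pow (Ideal.mem_span_singleton_self τ) _)
  rw [Ideal.span_singleton_pow] at h2
  obtain ⟨u, hu, q, hq, e⟩ := Submodule.mem_sup.mp h2
  obtain ⟨v, hv, rfl⟩ := Ideal.mem_mul_span_singleton.mp hu
  obtain ⟨c, rfl⟩ := (Ideal.mem_span_range_iff_exists_fun).mp hv
  have h3 : ∑ i, c i * h i = (∑ i, c i * s i) * τ := by
    rw [Finset.sum_mul]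
    exact Finset.sum_congr rfl fun i _ => by rw [hs i, mul_assoc]
  have h4 : τ ^ (k + 1) * (1 - ∑ i, c i * s i) ∈ Q := by
    have e2 : τ ^ (k + 1) * (1 - ∑ i, c i * s i) = q := by
      rw [h3] at e
      linear_combination -e
    rw [e2]
    exact hq
  have h5 : 1 - ∑ i, c i * s i ∈ Q := (hQ.mem_or_mem h4).resolve_left fun h => hτ (hQ.mem_of_pow_mem _ h)
  obtain ⟨i, hi⟩ : ∃ i, IsUnit (s i) := by
    by_contra hne
    push Not at hne
    have h6 : ∑ i, c i * s i ∈ IsLocalRing.maximalIdeal S :=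
      Ideal.sum_mem _ fun i _ => Ideal.mul_mem_left _ _ ((IsLocalRing.mem_maximalIdeal _).mpr (hne i))
    have h7 := Ideal.add_mem _ (IsLocalRing.le_maximalIdeal hQ.ne_top h5) h6
    rw [sub_add_cancel] at h7
    exact (Ideal.ne_top_iff_one _).mp (IsLocalRing.maximalIdeal.isMaximal S).ne_top h7
  obtain ⟨t, ht⟩ := hi.exists_left_inv
  exact ⟨i, t, by rw [hs i, ← mul_assoc, ht, one_mul]⟩

variable {X Y : Scheme.{u}} (μ : Y ⟶ X)

/-- One of the sections generates. -/
theorem gen_at {y : Y} {F : Y.IdealSheafData} [IsIntegral F.subscheme] (hy : y ∈ F.support) {M W : X.IdealSheafData}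
    (hM : BlowUp.IsEffCartierIdeal (M.comap μ)) (hWF : W.comap μ ≤ F)
    (hne : ∃ y' ∈ F.support, stalkIdeal M (μ y') = ⊤) {d : ℕ} {U : X.Opens} (hyU : μ y ∈ U) (H : Fin d → Γ(X, U))
    (hHM : ∀ i, X.presheaf.germ U (μ y) hyU (H i) ∈ stalkIdeal M (μ y)) (k : ℕ)
    (hred : stalkIdeal M (μ y) ^ (k + 1) ≤ spanGerm H (μ y) hyU * stalkIdeal M (μ y) ^ k ⊔ stalkIdeal W (μ y)) :
    ∃ i, ∀ s ∈ stalkIdeal (M.comap μ) y, ∃ t : Y.presheaf.stalk y,
      s = t * μ.stalkMap y (X.presheaf.germ U (μ y) hyU (H i)) := by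
  obtain ⟨τ, -, hτ⟩ := exists_stalkIdeal_eq_span hM y
  have hQ := isPrime_stalkIdeal F hy
  have hMy : (stalkIdeal M (μ y)).map (μ.stalkMap y).hom = Ideal.span {τ} := by rw [← stalkIdeal_comap, hτ]
  have hWy : (stalkIdeal W (μ y)).map (μ.stalkMap y).hom ≤ stalkIdeal F y := by
    rw [← stalkIdeal_comap]
    exact stalkIdeal_mono hWF y
  have hτQ : τ ∉ stalkIdeal F y := by
    intro hτQ
    obtain ⟨y', hy', hMy'⟩ := hne
    obtain ⟨z, hz⟩ := exists_subscheme_apply_eq F hy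
    obtain ⟨z', hz'⟩ := exists_subscheme_apply_eq F hy'
    let ξ : Y := F.subschemeι (genericPoint F.subscheme)
    have h1 : ξ ⤳ y := by
      rw [← hz]
      exact (genericPoint_specializes z).map F.subschemeι.continuous
    have h2 : ξ ⤳ y' := by
      rw [← hz']
      exact (genericPoint_specializes z').map F.subschemeι.continuous
    have h3 : stalkIdeal M (μ ξ) = ⊤ := by
      rw [stalkIdeal_specializes M (h2.map μ.continuous), hMy', Ideal.map_top]
    have h4 : stalkIdeal (M.comap μ) ξ = ⊤ := by rw [stalkIdeal_comap, h3, Ideal.map_top]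
    have h5 : stalkIdeal (M.comap μ) ξ ≤ stalkIdeal F ξ := by
      rw [stalkIdeal_specializes (M.comap μ) h1, stalkIdeal_specializes F h1]
      refine Ideal.map_mono ?_
      rw [hτ, Ideal.span_singleton_le_iff_mem]
      exact hτQ
    rw [h4] at h5
    exact (mem_support_iff_stalkIdeal_ne_top F ξ).mp (subschemeι_mem_support F _) (top_le_iff.mp h5)
  have h6 : Ideal.span {τ} ^ (k + 1) ≤
      Ideal.span (Set.range fun i => μ.stalkMap y (X.presheaf.germ U (μ y) hyU (H i))) * Ideal.span {τ} ^ k ⊔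
        stalkIdeal F y := by
    have h7 := Ideal.map_mono (f := (μ.stalkMap y).hom) hred
    rw [Ideal.map_sup, Ideal.map_mul, Ideal.map_pow, Ideal.map_pow, hMy] at h7
    refine h7.trans (sup_le_sup (Ideal.mul_mono_left ?_) hWy)
    unfold spanGerm
    rw [Ideal.map_span, ← Set.range_comp]
    exact le_rfl
  obtain ⟨i, t, ht⟩ := exists_gen_of_red (stalkIdeal F y) hτQ
    (fun i => μ.stalkMap y (X.presheaf.germ U (μ y) hyU (H i)))
    (fun i => by rw [← hMy]; exact Ideal.mem_map_of_mem _ (hHM i)) k h6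
  refine ⟨i, fun s hs => ?_⟩
  rw [hτ] at hs
  obtain ⟨c, rfl⟩ := Ideal.mem_span_singleton'.mp hs
  exact ⟨c * t, by rw [mul_assoc, ← ht]⟩

/-! ### Functions on `X` as rational functions on `Y` -/

variable [IsIntegral Y]

/-- The rational function on `Y` defined by a section of `O_X`. -/
def rat (U : X.Opens) (hη : genericPoint Y ∈ μ ⁻¹ᵁ U) : Γ(X, U) →+* Y.functionField :=
  (Y.presheaf.germ (μ ⁻¹ᵁ U) (genericPoint Y) hη).hom.comp (μ.app U).hom

theorem rat_apply (U : X.Opens) (hη : genericPoint Y ∈ μ ⁻¹ᵁ U) (s : Γ(X, U)) :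
    rat μ U hη s = Y.presheaf.germ (μ ⁻¹ᵁ U) (genericPoint Y) hη (μ.app U s) := rfl

theorem algebraMap_stalkMap (U : X.Opens) (hη : genericPoint Y ∈ μ ⁻¹ᵁ U) (s : Γ(X, U)) (y : Y) (hy : μ y ∈ U) :
    algebraMap (Y.presheaf.stalk y) Y.functionField (μ.stalkMap y (X.presheaf.germ U (μ y) hy s)) = rat μ U hη s := by
  rw [Scheme.Hom.germ_stalkMap_apply, rat_apply]
  exact algebraMap_germ y hy hη (μ.app U s)

theorem rat_injective [IsIntegral X] (hμ : μ (genericPoint Y) = genericPoint X) (U : X.Opens)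
    (hη : genericPoint Y ∈ μ ⁻¹ᵁ U) : Function.Injective (rat μ U hη) := by
  have h0 : ∀ z, z = genericPoint X → IsField (X.presheaf.stalk z) := by
    rintro _ rfl
    exact Field.toIsField X.functionField
  let := (h0 _ hμ).toField
  have h2 : Function.Injective (μ.stalkMap (genericPoint Y)).hom := RingHom.injective _
  have hη' : μ (genericPoint Y) ∈ U := hη
  have h3 : Function.Injective (X.presheaf.germ U (μ (genericPoint Y)) hη') :=
    germ_injective_of_isIntegral X _ hη'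
  intro s t h
  apply h3
  apply h2
  have h4 := Scheme.Hom.germ_stalkMap_apply μ U (genericPoint Y) hη' s
  have h5 := Scheme.Hom.germ_stalkMap_apply μ U (genericPoint Y) hη' t
  exact h4.trans (h.trans h5.symm)

variable {μ}

theorem colon_anti {I I' J : Y.IdealSheafData} (h : I ≤ I') (y : Y) : colon I J y ≤ colon I' J y := by
  intro f hf s hs
  obtain ⟨t, ht, e⟩ := hf s hs
  exact ⟨t, stalkIdeal_mono h y ht, e⟩

theorem mon_anti {r : ℕ} (E : Fin r → Y.IdealSheafData) {e e' : Fin r → ℕ} (h : e ≤ e') : mon E e' ≤ mon E e := by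
  apply le_of_stalkIdeal
  intro y
  have key : ∀ s : Finset (Fin r), stalkIdeal (∏ i ∈ s, E i ^ e' i) y ≤ stalkIdeal (∏ i ∈ s, E i ^ e i) y := by
    classical
    intro s
    induction s using Finset.induction_on with
    | empty => simp
    | insert i s hi ih =>
      rw [Finset.prod_insert hi, Finset.prod_insert hi, stalkIdeal_mul, stalkIdeal_mul, stalkIdeal_pow, stalkIdeal_pow]
      exact Ideal.mul_mono (Ideal.pow_le_pow_right (h i)) ih
  exact key Finset.univ

theorem stalkIdeal_mon_add {r : ℕ} (E : Fin r → Y.IdealSheafData) (e m : Fin r → ℕ) (k : ℕ) (y : Y) :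
    stalkIdeal (mon E (e + k • m)) y = stalkIdeal (mon E e) y * stalkIdeal (mon E m) y ^ k := by
  rw [← stalkIdeal_pow, ← stalkIdeal_mul]
  congr 1
  rw [← Finset.prod_pow, ← Finset.prod_mul_distrib]
  refine Finset.prod_congr rfl fun i _ => ?_
  rw [Pi.add_apply, Pi.smul_apply, smul_eq_mul, pow_add, mul_comm k, pow_mul]

theorem isEff_mon' {Y : Scheme.{u}} {r : ℕ} {E : Fin r → Y.IdealSheafData} (hE : ∀ i, BlowUp.IsEffCartierIdeal (E i))
    (e : Fin r → ℕ) : BlowUp.IsEffCartierIdeal (mon E e) := by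
  have key : ∀ s : Finset (Fin r), BlowUp.IsEffCartierIdeal (∏ i ∈ s, E i ^ e i) := by
    classical
    intro s
    induction s using Finset.induction_on with
    | empty =>
      rw [Finset.prod_empty]
      exact Divis.EffCartier.isEff_top
    | insert i s hi ih =>
      rw [Finset.prod_insert hi]
      exact Divis.EffCartier.isEff_mul (Divis.EffCartier.isEff_pow (hE i) _) ih
  exact key Finset.univ

variable (μ)

/-- **Skoda's theorem near a centre.** -/
theorem main [IsIntegral X] [IsLocallyNoetherian X] (hμ : μ (genericPoint Y) = genericPoint X)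
    {J : Y.IdealSheafData} (hJ : BlowUp.IsEffCartierIdeal J)
    (hJ3 : ∀ (U : X.Opens) (hη : genericPoint Y ∈ μ ⁻¹ᵁ U) (F : Y.functionField),
      (∀ y, μ y ∈ U → ∀ a ∈ stalkIdeal J y, ∃ b : Y.presheaf.stalk y,
        algebraMap _ Y.functionField b = F * algebraMap _ Y.functionField a) → ∃ s : Γ(X, U), rat μ U hη s = F)
    {r : ℕ} {E : Fin r → Y.IdealSheafData} (hE : ∀ i, BlowUp.IsEffCartierIdeal (E i))
    (hEint : ∀ i, IsIntegral (E i).subscheme) {M : X.IdealSheafData} {m : Fin r → ℕ} (hM : M.comap μ = mon E m)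
    (W : X.IdealSheafData) {e0 e1 : Fin r → ℕ} (he : ∀ i, e1 i ≤ e0 i) (hW : ∀ i, e1 i < e0 i → W.comap μ ≤ E i)
    (hne : ∀ i, e1 i < e0 i → ∃ y ∈ (E i).support, stalkIdeal M (μ y) = ⊤)
    {d b : ℕ} (hd : 0 < d) (hb : 1 ≤ b) (hbd : b ≤ d) (x : X) (N : X.Opens) (hN : x ∈ N)
    (h1 : ∀ y, μ y ∈ N → (1 : Y.functionField) ∈ colon (mon E (e1 + (b - 1) • m)) J y)
    (h0 : ∀ (U : X.affineOpens) (hη : genericPoint Y ∈ μ ⁻¹ᵁ U.1), U.1 ≤ N → x ∈ U.1 → ∀ s : Γ(X, U.1),
      (∀ y, μ y ∈ U.1 → rat μ U.1 hη s ∈ colon (mon E e0) J y) → s ∈ W.ideal U)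
    (hA1 : ∀ U : X.affineOpens, U.1 ≤ N → x ∈ U.1 → ∀ j < d, ∀ q, 1 ≤ q →
      Subsingleton (Coh.HH (μ ⁻¹ᵁ U.1 : Y.Opens) (modR (μ ⁻¹ᵁ U.1) (colon (mon E (e1 + j • m)) J)) q))
    (hA0 : ∀ U : X.affineOpens, U.1 ≤ N → x ∈ U.1 → ∀ j < d, ∀ q, 1 ≤ q →
      Subsingleton (Coh.HH (μ ⁻¹ᵁ U.1 : Y.Opens) (modR (μ ⁻¹ᵁ U.1) (colon (mon E (e0 + j • m)) J)) q))
    (h : Fin d → X.presheaf.stalk x) (hh : ∀ i, h i ∈ stalkIdeal M x) (k : ℕ)
    (hred : stalkIdeal M x ^ (k + 1) ≤ Ideal.span (Set.range h) * stalkIdeal M x ^ k ⊔ stalkIdeal W x) :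
    stalkIdeal M x ^ (d + 1 - b) ≤ Ideal.span (Set.range h) ⊔ stalkIdeal W x := by
  obtain ⟨U, hxU, H, hUN, hH, hHM, hHred⟩ := exists_near x h M W k hred hh N hN
  have hηX : genericPoint X ∈ U.1 := mem_of_nonempty hxU
  have hη : genericPoint Y ∈ μ ⁻¹ᵁ U.1 := by
    change μ (genericPoint Y) ∈ U.1
    rw [hμ]
    exact hηX
  have hMeff : BlowUp.IsEffCartierIdeal (M.comap μ) := by
    rw [hM]
    exact isEff_mon' hE m
  have hHM' : ∀ i (x' : X) (hx' : x' ∈ U.1), X.presheaf.germ U.1 x' hx' (H i) ∈ stalkIdeal M x' := fun i x' hx' => by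
    rw [stalkIdeal_eq M U hx']
    exact Ideal.mem_map_of_mem _ (hHM i)
  have hgen : ∀ y ∈ μ ⁻¹ᵁ U.1, (∀ i, e1 i < e0 i → y ∉ (E i).support) ∨ ∃ i, ∀ s ∈ stalkIdeal (mon E m) y,
      ∃ t : Y.presheaf.stalk y, algebraMap (Y.presheaf.stalk y) Y.functionField s =
        algebraMap _ _ t * rat μ U.1 hη (H i) := by
    intro y hy
    by_cases hc : ∀ i, e1 i < e0 i → y ∉ (E i).support
    · exact Or.inl hc
    · push Not at hc
      obtain ⟨l, hl, hyl⟩ := hc
      have := hEint l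
      obtain ⟨i, hi⟩ := gen_at μ hyl hMeff (hW l hl) (hne l hl) hy H (fun i => hHM' i _ _) k (hHred _ hy)
      refine Or.inr ⟨i, fun s hs => ?_⟩
      rw [← hM] at hs
      obtain ⟨t, rfl⟩ := hi s hs
      exact ⟨t, by rw [map_mul, algebraMap_stalkMap μ U.1 hη (H i) y hy]⟩
  -- the powers of `M`
  have key : ∀ a ∈ M.ideal U ^ (d + 1 - b), a ∈ Ideal.span (Set.range H) ⊔ W.ideal U := by
    intro a ha
    have hf : ∀ y ∈ μ ⁻¹ᵁ U.1, rat μ U.1 hη a ∈ colon (mon E (e1 + d • m)) J y := by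
      intro y hy s hs
      obtain ⟨t, ht, et⟩ := h1 y (hUN hy) s hs
      have h2 : μ.stalkMap y (X.presheaf.germ U.1 (μ y) hy a) ∈ stalkIdeal (mon E m) y ^ (d + 1 - b) := by
        rw [← hM, stalkIdeal_comap, stalkIdeal_eq M U hy, ← Ideal.map_pow, ← Ideal.map_pow]
        exact Ideal.mem_map_of_mem _ (Ideal.mem_map_of_mem _ ha)
      refine ⟨μ.stalkMap y (X.presheaf.germ U.1 (μ y) hy a) * t, ?_, ?_⟩
      · have e : e1 + d • m = e1 + (b - 1) • m + (d + 1 - b) • m := by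
          rw [add_assoc, ← add_smul]
          congr 2
          omega
        rw [e, stalkIdeal_mon_add, mul_comm _ t]
        exact Ideal.mul_mem_mul ht h2
      · rw [map_mul, et, algebraMap_stalkMap μ U.1 hη a y hy, one_mul]
    obtain ⟨c, w, hc, hw, e⟩ := skoda hη hJ hE he hd (fun i => rat μ U.1 hη (H i))
      (fun i y hy => ⟨μ.stalkMap y (X.presheaf.germ U.1 (μ y) hy (H i)), by
        rw [← hM, stalkIdeal_comap]
        exact Ideal.mem_map_of_mem _ (hHM' i _ _), algebraMap_stalkMap μ U.1 hη (H i) y hy⟩)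
      hgen (hA1 U hUN hxU) (hA0 U hUN hxU) hf
    have hex : ∀ (I : Y.IdealSheafData) (F : Y.functionField), (∀ y ∈ μ ⁻¹ᵁ U.1, F ∈ colon I J y) →
        ∃ s : Γ(X, U.1), rat μ U.1 hη s = F := fun I F hF => hJ3 U.1 hη F fun y hy a ha => by
      obtain ⟨t, -, et⟩ := hF y hy a ha
      exact ⟨t, et⟩
    choose C hC using fun i => hex _ (c i) (hc i)
    obtain ⟨w', rfl⟩ := hex _ w hw
    have hw' : w' ∈ W.ideal U := h0 U hη hUN hxU w' fun y hy =>
      colon_anti (mon_anti E (fun i => Nat.le_add_right _ _)) y (hw y hy)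
    have e2 : a = ∑ i, H i * C i + w' := by
      apply rat_injective μ hμ U.1 hη
      rw [e, map_add, map_sum]
      simp only [map_mul, hC]
    rw [e2]
    refine Ideal.add_mem _ (Ideal.sum_mem _ fun i _ => Ideal.mul_mem_right _ _ ?_) (Ideal.mem_sup_right hw')
    exact Ideal.mem_sup_left (Ideal.subset_span ⟨i, rfl⟩)
  have h3 := Ideal.map_mono (f := (X.presheaf.germ U.1 x hxU).hom) (show M.ideal U ^ (d + 1 - b) ≤ _ from key)
  rw [Ideal.map_pow, Ideal.map_sup, ← stalkIdeal_eq M U hxU, ← stalkIdeal_eq W U hxU, map_span_germ] at h3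
  refine h3.trans (sup_le_sup_right (le_of_eq ?_) _)
  exact congrArg (fun t => Ideal.span (Set.range t)) (funext hH)

end K577.SkodaEnd

end
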