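import Groth.Agent.AdjLin.K577.Lat
import Groth.Agent.Divis.CartierBasic

/-!
# Cartier data and effective Cartier ideals

* `exists_open_unitR`: units of a local ring are units nearby.
* `IsGen I g`: `g x ∈ K` is (the image of) a generator of the stalk ideal `I_x`, for all `x`.
  `exists_isGen` (for effective Cartier `I`), `IsGen.mem_CD`, `IsGen.top/mul/pow/prod`.
* `IsGen.mem_lat_iff`: `f ∈ lat g x ↔ f ∈ I_x` (image in `K`).
* `mem_lat_div_iff`: `f ∈ lat (g / j) x ↔ f J_x ⊆ I_x`.
* `colon I J : Fam X`: the family of the `f` with `f J_x ⊆ I_x`; `colon_eq_lat`, `nice_colon`.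
-/

set_option autoImplicit false
set_option linter.unusedSectionVars false
set_option linter.unusedVariables false
universe u
open CategoryTheory CategoryTheory.Limits AlgebraicGeometry TopologicalSpace Opposite

noncomputable section

namespace K577.LatIdeal

open Groth.Agent Groth.Agent.CycB K475.GenStalk K756.LatSh K577.Lat Groth.Agent.Divis.CartierBasic

variable {X : Scheme.{u}} [IsIntegral X]

theorem algebraMap_inj (x : X) : Function.Injective (algebraMap (X.presheaf.stalk x) X.functionField) :=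
  IsFractionRing.injective (X.presheaf.stalk x) X.functionField

/-- Elements of a local ring at `x` come from the local rings nearby. -/
theorem exists_open_range {x : X} {a : X.functionField}
    (ha : a ∈ (algebraMap (X.presheaf.stalk x) X.functionField).range) :
    ∃ U : X.Opens, x ∈ U ∧ ∀ y ∈ U, a ∈ (algebraMap (X.presheaf.stalk y) X.functionField).range := by
  obtain ⟨u, rfl⟩ := ha
  obtain ⟨U, hU, r, rfl⟩ := TopCat.Presheaf.exists_germ_eq X.presheaf u
  refine ⟨U, hU, fun y hy => ⟨X.presheaf.germ U y hy r, ?_⟩⟩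
  rw [algebraMap_germ y hy (mem_of_nonempty hU), algebraMap_germ x hU (mem_of_nonempty hU)]

theorem mem_unitR_iff {x : X} {a : (X.functionField)ˣ} : a ∈ unitR x ↔
    (a : X.functionField) ∈ (algebraMap (X.presheaf.stalk x) X.functionField).range ∧
    ((a⁻¹ : (X.functionField)ˣ) : X.functionField) ∈ (algebraMap (X.presheaf.stalk x) X.functionField).range := by
  constructor
  · intro h
    obtain ⟨u, hu⟩ := mem_unitR.mp h
    obtain ⟨v, hv⟩ := mem_unitR.mp ((unitR x).inv_mem h)
    exact ⟨⟨u, hu⟩, ⟨v, hv⟩⟩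
  · rintro ⟨⟨u, hu⟩, ⟨v, hv⟩⟩
    have e : u * v = 1 := algebraMap_inj x (by rw [map_mul, hu, hv, map_one, Units.mul_inv])
    exact mem_unitR.mpr ⟨⟨u, v, e, by rw [mul_comm, e]⟩, hu⟩

/-- Units of a local ring are units nearby. -/
theorem exists_open_unitR {x : X} {a : (X.functionField)ˣ} (ha : a ∈ unitR x) :
    ∃ U : X.Opens, x ∈ U ∧ ∀ y ∈ U, a ∈ unitR y := by
  rw [mem_unitR_iff] at ha
  obtain ⟨U, hU, h⟩ := exists_open_range ha.1
  obtain ⟨V, hV, h'⟩ := exists_open_range ha.2
  exact ⟨U ⊓ V, ⟨hU, hV⟩, fun y hy => mem_unitR_iff.mpr ⟨h y hy.1, h' y hy.2⟩⟩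

theorem lat_le_iff_range {g g' : X → (X.functionField)ˣ} {x : X} :
    lat g x ≤ lat g' x ↔
      ((g x / g' x : (X.functionField)ˣ) : X.functionField) ∈
        (algebraMap (X.presheaf.stalk x) X.functionField).range := by
  rw [lat_le_iff, mem_lat', Units.val_div_eq_div_val]

theorem lat_eq_iff {g g' : X → (X.functionField)ˣ} {x : X} : lat g x = lat g' x ↔ g x / g' x ∈ unitR x := by
  refine ⟨fun h => ?_, lat_congr⟩
  rw [mem_unitR_iff]
  refine ⟨lat_le_iff_range.mp h.le, ?_⟩
  rw [inv_div]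
  exact lat_le_iff_range.mp h.ge

/-- Inclusions of lattices spread to neighbourhoods. -/
theorem exists_open_lat_le {g g' : X → (X.functionField)ˣ} (hg : g ∈ CD X) (hg' : g' ∈ CD X) {x : X}
    (h : lat g x ≤ lat g' x) : ∃ U : X.Opens, x ∈ U ∧ ∀ y ∈ U, lat g y ≤ lat g' y := by
  obtain ⟨U, hU, h1⟩ := hg x
  obtain ⟨U', hU', h1'⟩ := hg' x
  obtain ⟨U'', hU'', h2⟩ := exists_open_range (lat_le_iff_range.mp h)
  refine ⟨U ⊓ U' ⊓ U'', ⟨⟨hU, hU'⟩, hU''⟩, fun y hy => lat_le_iff_range.mpr ?_⟩
  have e : g y / g' y = (g y / g x) * (g x / g' x) * (g' y / g' x)⁻¹ := by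
    rw [inv_div, div_mul_div_cancel, div_mul_div_cancel]
  rw [e, Units.val_mul, Units.val_mul]
  exact Subring.mul_mem _ (Subring.mul_mem _ (mem_unitR_iff.mp (h1 y hy.1.1)).1 (h2 y hy.2))
    (mem_unitR_iff.mp ((unitR y).inv_mem (h1' y hy.1.2))).1

/-! ### Generators of ideals -/

/-- `g x` is the image of a generator of the stalk ideal of `I` at `x`. -/
def IsGen (I : X.IdealSheafData) (g : X → (X.functionField)ˣ) : Prop :=
  ∀ x : X, ∃ t : X.presheaf.stalk x, algebraMap (X.presheaf.stalk x) X.functionField t = g x ∧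
    stalkIdeal I x = Ideal.span {t}

theorem exists_isGen {I : X.IdealSheafData} (hI : BlowUp.IsEffCartierIdeal I) : ∃ g, IsGen I g := by
  choose t ht hI' using fun x => exists_stalkIdeal_eq_span hI x
  have h0 : ∀ x, algebraMap (X.presheaf.stalk x) X.functionField (t x) ≠ 0 := fun x e =>
    nonZeroDivisors.ne_zero (ht x) (algebraMap_inj x (e.trans (map_zero _).symm))
  exact ⟨fun x => Units.mk0 _ (h0 x), fun x => ⟨t x, rfl, hI' x⟩⟩

namespace IsGen

variable {I J : X.IdealSheafData} {g g' : X → (X.functionField)ˣ}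

theorem map_stalkIdeal (h : IsGen I g) (x : X) :
    Submodule.map (Algebra.linearMap (X.presheaf.stalk x) X.functionField) (stalkIdeal I x) = lat g x := by
  obtain ⟨t, ht, e⟩ := h x
  rw [e, Ideal.span, Submodule.map_span, Set.image_singleton, Algebra.linearMap_apply, ht]
  rfl

theorem mem_lat_iff (h : IsGen I g) (x : X) {f : X.functionField} :
    f ∈ lat g x ↔ ∃ s ∈ stalkIdeal I x, algebraMap (X.presheaf.stalk x) X.functionField s = f := by
  rw [← h.map_stalkIdeal x]
  rfl

theorem lat_le_iff (h : IsGen I g) (h' : IsGen J g') (x : X) :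
    lat g x ≤ lat g' x ↔ stalkIdeal I x ≤ stalkIdeal J x := by
  rw [← h.map_stalkIdeal x, ← h'.map_stalkIdeal x]
  exact Submodule.map_le_map_iff_of_injective (algebraMap_inj x) _ _

theorem lat_eq (h : IsGen I g) (h' : IsGen I g') : lat g = lat g' :=
  funext fun x => by rw [← h.map_stalkIdeal x, ← h'.map_stalkIdeal x]

theorem mem_CD (h : IsGen I g) (hI : BlowUp.IsEffCartierIdeal I) : g ∈ CD X := by
  intro x
  obtain ⟨U, hxU, f, hf, hU⟩ := hI x
  have hη : genericPoint X ∈ U.1 := mem_of_nonempty hxU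
  -- `f` generates the stalk ideals over `U`
  have h1 : ∀ y (hy : y ∈ U.1), stalkIdeal I y = Ideal.span {X.presheaf.germ U.1 y hy f} := fun y hy => by
    rw [stalkIdeal_eq I U hy, hU, Ideal.map_span, Set.image_singleton]
  obtain ⟨t, ht, et⟩ := h x
  have h2 : lat g x = Submodule.span (X.presheaf.stalk x) {X.presheaf.germ U.1 (genericPoint X) hη f} := by
    rw [← h.map_stalkIdeal x, h1 x hxU, Ideal.span, Submodule.map_span, Set.image_singleton,
      Algebra.linearMap_apply, algebraMap_germ x hxU hη]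
  have h0 : (X.presheaf.germ U.1 (genericPoint X) hη f : X.functionField) ≠ 0 := by
    intro e
    rw [e] at h2
    have h3 := gen_mem_lat g x
    rw [h2, Submodule.span_zero_singleton, Submodule.mem_bot] at h3
    exact Units.ne_zero _ h3
  let φ : (X.functionField)ˣ := Units.mk0 _ h0
  have h3 : ∀ y ∈ U.1, g y / φ ∈ unitR y := fun y hy => by
    have h4 : lat g y = lat (fun _ => φ) y := by
      rw [← h.map_stalkIdeal y, h1 y hy, Ideal.span, Submodule.map_span, Set.image_singleton,
        Algebra.linearMap_apply, algebraMap_germ y hy hη]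
      rfl
    exact lat_eq_iff.mp h4
  obtain ⟨V, hV, h5⟩ := exists_open_unitR (h3 x hxU)
  refine ⟨U.1 ⊓ V, ⟨hxU, hV⟩, fun y hy => ?_⟩
  rw [← div_div_div_cancel_right (g y) (g x) φ]
  exact (unitR y).div_mem (h3 y hy.1) (h5 y hy.2)

theorem top : IsGen (⊤ : X.IdealSheafData) 1 := fun x =>
  ⟨1, map_one _, by rw [stalkIdeal_top, Ideal.span_singleton_one]⟩

theorem mul (h : IsGen I g) (h' : IsGen J g') : IsGen (I * J) (g * g') := fun x => by
  obtain ⟨t, ht, e⟩ := h x
  obtain ⟨t', ht', e'⟩ := h' x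
  exact ⟨t * t', by rw [map_mul, ht, ht']; rfl, by rw [stalkIdeal_mul, e, e', Ideal.span_singleton_mul_span_singleton]⟩

theorem pow (h : IsGen I g) (n : ℕ) : IsGen (I ^ n) (g ^ n) := fun x => by
  obtain ⟨t, ht, e⟩ := h x
  exact ⟨t ^ n, by rw [map_pow, ht]; rfl, by rw [stalkIdeal_pow, e, Ideal.span_singleton_pow]⟩

theorem one : IsGen (1 : X.IdealSheafData) 1 := top

theorem prod {ι : Type*} {I : ι → X.IdealSheafData} {g : ι → X → (X.functionField)ˣ} (s : Finset ι)
    (h : ∀ i ∈ s, IsGen (I i) (g i)) : IsGen (∏ i ∈ s, I i) (∏ i ∈ s, g i) := by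
  classical
  induction s using Finset.induction_on with
  | empty => exact one
  | insert i s hi ih =>
    rw [Finset.prod_insert hi, Finset.prod_insert hi]
    exact (h i (Finset.mem_insert_self i s)).mul (ih fun j hj => h j (Finset.mem_insert_of_mem hj))

theorem prod_pow {ι : Type*} [Fintype ι] {I : ι → X.IdealSheafData} {g : ι → X → (X.functionField)ˣ}
    (h : ∀ i, IsGen (I i) (g i)) (e : ι → ℕ) : IsGen (∏ i, I i ^ e i) (∏ i, g i ^ e i) :=
  prod _ fun i _ => (h i).pow (e i)

end IsGen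

/-- `f J_x ⊆ I_x`. -/
theorem mem_lat_div_iff {I J : X.IdealSheafData} {g j : X → (X.functionField)ˣ} (hI : IsGen I g) (hJ : IsGen J j)
    {x : X} {f : X.functionField} : f ∈ lat (g / j) x ↔
      ∀ s ∈ stalkIdeal J x, ∃ t ∈ stalkIdeal I x,
        algebraMap (X.presheaf.stalk x) X.functionField t =
          f * algebraMap (X.presheaf.stalk x) X.functionField s := by
  have e : g / j * j = g := div_mul_cancel _ _
  constructor
  · intro hf s hs
    have h1 := mul_mem_lat_mul hf ((hJ.mem_lat_iff x).mpr ⟨s, hs, rfl⟩)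
    rw [e] at h1
    exact (hI.mem_lat_iff x).mp h1
  · intro hf
    obtain ⟨s, hs, hsJ⟩ := hJ x
    obtain ⟨t, ht, e'⟩ := hf s (by rw [hsJ]; exact Ideal.mem_span_singleton_self s)
    have h1 : f * (j x : X.functionField) ∈ lat g x := by
      rw [← hs, ← e']
      exact (hI.mem_lat_iff x).mpr ⟨t, ht, rfl⟩
    rw [← e, mul_comm f, mul_comm (g / j)] at h1
    exact mul_mem_lat_iff.mp h1

/-- The family of the `f ∈ K` with `f J_x ⊆ I_x`. -/
def colon (I J : X.IdealSheafData) : Fam X := fun x =>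
  { carrier := {f | ∀ s ∈ stalkIdeal J x, ∃ t ∈ stalkIdeal I x,
      algebraMap (X.presheaf.stalk x) X.functionField t = f * algebraMap (X.presheaf.stalk x) X.functionField s}
    zero_mem' := fun s _ => ⟨0, (stalkIdeal I x).zero_mem, by rw [map_zero, zero_mul]⟩
    add_mem' := fun {f f'} hf hf' s hs => by
      obtain ⟨t, ht, e⟩ := hf s hs
      obtain ⟨t', ht', e'⟩ := hf' s hs
      exact ⟨t + t', (stalkIdeal I x).add_mem ht ht', by rw [map_add, e, e', add_mul]⟩
    smul_mem' := fun c f hf s hs => by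
      obtain ⟨t, ht, e⟩ := hf s hs
      exact ⟨c * t, (stalkIdeal I x).mul_mem_left c ht, by rw [map_mul, e, Algebra.smul_def, mul_assoc]⟩ }

theorem mem_colon {I J : X.IdealSheafData} {x : X} {f : X.functionField} : f ∈ colon I J x ↔
    ∀ s ∈ stalkIdeal J x, ∃ t ∈ stalkIdeal I x, algebraMap (X.presheaf.stalk x) X.functionField t =
      f * algebraMap (X.presheaf.stalk x) X.functionField s := Iff.rfl

theorem colon_eq_lat {I J : X.IdealSheafData} {g j : X → (X.functionField)ˣ} (hI : IsGen I g) (hJ : IsGen J j) :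
    colon I J = lat (g / j) := funext fun _ => Submodule.ext fun _ => (mem_lat_div_iff hI hJ).symm

theorem nice_colon {I J : X.IdealSheafData} (hI : BlowUp.IsEffCartierIdeal I) (hJ : BlowUp.IsEffCartierIdeal J) :
    Nice (colon I J) 1 := by
  obtain ⟨g, hg⟩ := exists_isGen hI
  obtain ⟨j, hj⟩ := exists_isGen hJ
  rw [colon_eq_lat hg hj]
  exact nice_lat ((CD X).div_mem (hg.mem_CD hI) (hj.mem_CD hJ))

end K577.LatIdeal

end
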