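import Groth.Agent.AdjLin.K577.SkodaCore
import Groth.Agent.CohqA.TwoChart

/-!
# Mayer-Vietoris for lattices in the function field

* `exists_sub`: `V = V₁ ∪ V₂` opens of the integral scheme `X`, `H^1(V, mod P) = 0`: every `g ∈ K` lying in `P y` for all
  `y ∈ V₁ ∩ V₂` is `f₁ - f₂` with `f_i ∈ P y` for `y ∈ V_i`.
-/

set_option autoImplicit false
set_option linter.unusedSectionVars false
set_option linter.unusedVariables false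
universe u
open CategoryTheory CategoryTheory.Limits AlgebraicGeometry TopologicalSpace Opposite

noncomputable section

namespace K577.LatMV

open Groth.Agent Groth.Agent.CycB K475.GenStalk K756.LatSh K577.Lat K577.LatIdeal K577.SkodaCore

variable {X : Scheme.{u}} [IsIntegral X]

/-- **Mayer-Vietoris for lattices.** -/
theorem exists_sub (V V₁ V₂ : X.Opens) (hV : V₁ ⊔ V₂ = V) (P : Fam X)
    (h1 : Subsingleton (Coh.HH (V : Scheme.{u}) (modR V P) 1)) {g : X.functionField} (hg : g ∈ secs (V₁ ⊓ V₂) P) :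
    ∃ f₁ ∈ secs V₁ P, ∃ f₂ ∈ secs V₂ P, g = f₁ - f₂ := by
  by_cases he₁ : genericPoint X ∈ V₁
  swap
  · refine ⟨g, fun y hy => (he₁ (mem_of_nonempty hy)).elim, 0, (secs V₂ P).zero_mem, (sub_zero g).symm⟩
  by_cases he₂ : genericPoint X ∈ V₂
  swap
  · exact ⟨0, (secs V₁ P).zero_mem, -g, fun y hy => (he₂ (mem_of_nonempty hy)).elim, by rw [zero_sub, neg_neg]⟩
  let A₁ : (V : Scheme.{u}).Opens := V.ι ⁻¹ᵁ V₁
  let A₂ : (V : Scheme.{u}).Opens := V.ι ⁻¹ᵁ V₂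
  have hcov : A₁ ⊔ A₂ = ⊤ := by
    rw [eq_top_iff]
    rintro ⟨x, hx⟩ -
    rw [← hV] at hx
    exact hx
  have hi : ∀ (A : (V : Scheme.{u}).Opens) (y : X), y ∈ V.ι ''ᵁ A → ∃ z ∈ A, V.ι z = y := fun A y hy => hy
  have hmem : ∀ y ∈ V.ι ''ᵁ (A₁ ⊓ A₂), g ∈ P y := fun y hy => by
    obtain ⟨z, hz, rfl⟩ := hi _ y hy
    exact hg _ hz
  let t : Γ(modR V P, A₁ ⊓ A₂) := mk (P := P) (V.ι ''ᵁ (A₁ ⊓ A₂)) g hmem
  obtain ⟨a, b, hab⟩ := (CohqA.TwoChart.δ_eq_zero_iff (modR V P) hcov t).mp (h1.elim _ _)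
  have hηV : genericPoint X ∈ V := by
    rw [← hV]
    exact Or.inl he₁
  let a' : Γ(mod P, V.ι ''ᵁ A₁) := a
  let b' : Γ(mod P, V.ι ''ᵁ A₂) := b
  have hη₁ : genericPoint X ∈ V.ι ''ᵁ A₁ := ⟨⟨genericPoint X, hηV⟩, he₁, rfl⟩
  have hη₂ : genericPoint X ∈ V.ι ''ᵁ A₂ := ⟨⟨genericPoint X, hηV⟩, he₂, rfl⟩
  have hη : genericPoint X ∈ V.ι ''ᵁ (A₁ ⊓ A₂) := ⟨⟨genericPoint X, hηV⟩, ⟨he₁, he₂⟩, rfl⟩
  refine ⟨a'.1 ⟨_, hη₁⟩, fun y hy => ?_, b'.1 ⟨_, hη₂⟩, fun y hy => ?_, ?_⟩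
  · have hy' : y ∈ V.ι ''ᵁ A₁ := ⟨⟨y, by rw [← hV]; exact Or.inl hy⟩, hy, rfl⟩
    rw [apply_eq a' ⟨_, hη₁⟩ ⟨y, hy'⟩]
    exact apply_mem a' ⟨y, hy'⟩
  · have hy' : y ∈ V.ι ''ᵁ A₂ := ⟨⟨y, by rw [← hV]; exact Or.inr hy⟩, hy, rfl⟩
    rw [apply_eq b' ⟨_, hη₂⟩ ⟨y, hy'⟩]
    exact apply_mem b' ⟨y, hy'⟩
  · have h2 := congrArg (fun s : Γ(mod P, V.ι ''ᵁ (A₁ ⊓ A₂)) => s.1 ⟨_, hη⟩) hab
    exact h2.symm

end K577.LatMV

end
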