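import Groth.Agent.IdealRed.K437.AnInd
import Groth.Agent.Ega4A.LengthGrowth
import Mathlib.LinearAlgebra.Quotient.Pi

/-!
# General parameters: a minimal reduction of the maximal ideal generated by `dim A` elements

* `le_dim`: analytically independent elements of the maximal ideal are at most `dim A` many.
* `exists_params`: `A` Noetherian local of dimension `d`, infinite residue field: there are `v : Fin d → A`
  generating a reduction of the maximal ideal `m`, linearly independent in `m / m^2`.
* `exists_generator`: a reduction of `b` generates the extension of `b` to a local domain in which `b` becomes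
  principal and nonzero, by one of the elements.
-/

set_option autoImplicit false

universe u

namespace K577.Params

open IsLocalRing _root_.IdealRed Groth.Agent.Ega4A.LengthGrowth

variable {A : Type u} [CommRing A] [IsLocalRing A]

/-- analytic independence in the maximal ideal. -/
def AnInd {t : ℕ} (v : Fin t → A) : Prop :=
  ∀ (h : ℕ) (f : MvPolynomial (Fin t) A), f.IsHomogeneous h →
    MvPolynomial.eval v f ∈ maximalIdeal A * maximalIdeal A ^ h →
      ∀ d : Fin t →₀ ℕ, f.coeff d ∈ maximalIdeal A

/-- the length of `S → A` modulo `m`. -/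
theorem card_le_ql {S : Type} [Fintype S] [DecidableEq S] :
    ((Fintype.card S : ℕ) : ℕ∞) ≤
      ql (Submodule.pi Set.univ fun _ : S => (maximalIdeal A : Submodule A A)) := by
  have e : ((S → A) ⧸ Submodule.pi Set.univ fun _ : S => (maximalIdeal A : Submodule A A)) ≃ₗ[A]
      (S → A ⧸ maximalIdeal A) := Submodule.quotientPi _
  rw [ql, e.length_eq, Module.length_pi_of_fintype]
  have h1 : Module.length A (A ⧸ maximalIdeal A) = 1 := by
    rw [Module.length_eq_one_iff]
    exact isSimpleModule_iff_isCoatom.2 (maximalIdeal.isMaximal A).1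
  simp [h1]

open Finset in
/-- one step of the lower bound. -/
theorem step {t : ℕ} (v : Fin t → A) (hv : ∀ i, v i ∈ maximalIdeal A) (hind : AnInd v) (n : ℕ)
    (T : Finset (Fin t →₀ ℕ)) (hT : ∀ m ∈ T, m.degree = n) :
    ((T.card : ℕ) : ℕ∞) + ql (maximalIdeal A ^ n) ≤ ql (maximalIdeal A ^ (n + 1)) := by
  classical
  let φ : ({m // m ∈ T} → A) →ₗ[A] A := Fintype.linearCombination A (fun m : {m // m ∈ T} => m.1.prod fun i k => v i ^ k)
  have hφ : ∀ c, φ c = MvPolynomial.eval v (∑ m : {m // m ∈ T}, MvPolynomial.monomial m.1 (c m)) := fun c => by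
    rw [map_sum]
    refine Finset.sum_congr rfl fun m _ => ?_
    rw [MvPolynomial.eval_monomial, smul_eq_mul]
  have h := ql_add_ql_le φ (maximalIdeal A ^ (n + 1))
    (Submodule.pi Set.univ fun _ : {m // m ∈ T} => (maximalIdeal A : Submodule A A)) (by
      intro c hc m _
      have h1 : MvPolynomial.eval v (∑ m : {m // m ∈ T}, MvPolynomial.monomial m.1 (c m)) ∈
          maximalIdeal A * maximalIdeal A ^ n := by
        rw [← hφ, ← pow_succ']
        exact hc
      have h2 := hind n _ (MvPolynomial.IsHomogeneous.sum _ _ _ fun m _ =>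
        MvPolynomial.isHomogeneous_monomial _ (hT m.1 m.2)) h1 m.1
      rw [MvPolynomial.coeff_sum] at h2
      have h3 : ∀ m' : {m // m ∈ T}, MvPolynomial.coeff m.1 (MvPolynomial.monomial m'.1 (c m')) =
          if m' = m then c m' else 0 := fun m' => by
        rw [MvPolynomial.coeff_monomial]
        by_cases hm : m' = m
        · rw [if_pos hm, if_pos (congrArg Subtype.val hm)]
        · rw [if_neg hm, if_neg (fun hh => hm (Subtype.ext hh))]
      simp only [h3, Finset.sum_ite_eq', Finset.mem_univ, if_true] at h2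
      exact h2)
  refine le_trans ?_ h
  have h1 := card_le_ql (A := A) (S := {m // m ∈ T})
  rw [Fintype.card_coe] at h1
  refine add_le_add h1 (ql_anti ?_)
  refine sup_le (Ideal.pow_le_pow_right n.le_succ) ?_
  rintro _ ⟨c, rfl⟩
  refine Submodule.sum_mem _ fun m _ => Ideal.mul_mem_left _ _ ?_
  rw [← hT m.1 m.2]
  change (m.1.prod fun i k => v i ^ k) ∈ _
  rw [Finsupp.degree_apply, Finsupp.prod, ← Finset.prod_pow_eq_pow_sum]
  refine Ideal.prod_mem_prod fun i _ => Ideal.pow_mem_pow (hv i) _


/-- the lower bound for the length of `A / m ^ n`. -/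
theorem card_le {t : ℕ} (v : Fin t → A) (hv : ∀ i, v i ∈ maximalIdeal A) (hind : AnInd v) (n : ℕ)
    (T : Finset (Fin t →₀ ℕ)) (hT : ∀ m ∈ T, m.degree < n) :
    ((T.card : ℕ) : ℕ∞) ≤ ql (maximalIdeal A ^ n) := by
  classical
  induction n generalizing T with
  | zero =>
    have h0 : T = ∅ := Finset.eq_empty_of_forall_notMem fun m hm => absurd (hT m hm) (by omega)
    simp [h0]
  | succ n ih =>
    have h1 := step v hv hind n (T.filter fun m => m.degree = n) (fun m hm => (Finset.mem_filter.1 hm).2)
    have h2 := ih (T.filter fun m => ¬ m.degree = n) (fun m hm => by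
      have h3 := hT m (Finset.mem_filter.1 hm).1
      have h4 := (Finset.mem_filter.1 hm).2
      omega)
    have h3 := Finset.card_filter_add_card_filter_not (s := T) (fun m => m.degree = n)
    rw [← h3, Nat.cast_add]
    exact (add_le_add le_rfl h2).trans h1

theorem lowerGrowth {t : ℕ} (v : Fin t → A) (hv : ∀ i, v i ∈ maximalIdeal A) (hind : AnInd v) :
    LowerGrowth (fun n => ql (maximalIdeal A ^ n)) t := by
  classical
  refine ⟨1, t + 1, by omega, fun n => ?_⟩
  rw [Nat.cast_one, one_mul]
  let e : (Fin t → Fin n) ↪ (Fin t →₀ ℕ) :=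
    ⟨fun f => Finsupp.equivFunOnFinite.symm fun i => (f i : ℕ), fun f g h => by
      have h1 := Finsupp.equivFunOnFinite.symm.injective h
      funext i
      exact Fin.ext (congrFun h1 i)⟩
  have h1 := card_le v hv hind ((t + 1) * (n + 1)) (Finset.univ.map e) (fun m hm => by
    obtain ⟨f, -, rfl⟩ := Finset.mem_map.1 hm
    rw [Finsupp.degree_eq_sum]
    have h2 : ∀ i, (e f) i ≤ n := fun i => (f i).2.le
    calc ∑ i, (e f) i ≤ ∑ _i : Fin t, n := Finset.sum_le_sum fun i _ => h2 i
      _ = t * n := by simp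
      _ < (t + 1) * (n + 1) := by nlinarith)
  rw [Finset.card_map, Finset.card_univ, Fintype.card_fun, Fintype.card_fin, Fintype.card_fin] at h1
  exact h1

/-- Analytically independent elements of the maximal ideal are at most `dim A` many. -/
theorem le_dim [IsNoetherianRing A] {d : ℕ} (hd : ringKrullDim A ≤ d) {t : ℕ} (v : Fin t → A)
    (hv : ∀ i, v i ∈ maximalIdeal A) (hind : AnInd v) : t ≤ d := by
  have h1 := upperGrowth (R := A) (M := A) (maximalIdeal A) (b := 1) (by rw [pow_one]) d
    ((Module.supportDim_self_eq_ringKrullDim A).trans_le hd)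
  refine le_of_growth (lowerGrowth v hv hind) ?_
  simpa only [smul_eq_mul, Ideal.mul_top] using h1

theorem le_card [IsNoetherianRing A] {d : ℕ} (hd : ringKrullDim A = d) (T : Finset A)
    (hT : IsReduction (Ideal.span (T : Set A)) (maximalIdeal A)) : d ≤ T.card := by
  obtain ⟨s, hs⟩ := hT.2
  have h1 : maximalIdeal A ≤ (Ideal.span (T : Set A)).radical := by
    intro y hy
    refine ⟨s + 1, ?_⟩
    have h2 : y ^ (s + 1) ∈ Ideal.span (T : Set A) * maximalIdeal A ^ s := by
      rw [hs]
      exact Ideal.pow_mem_pow hy _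
    exact (Ideal.mul_le_left : Ideal.span (T : Set A) * maximalIdeal A ^ s ≤ _) h2
  have h2 : maximalIdeal A ∈ (Ideal.span (T : Set A)).minimalPrimes :=
    ⟨⟨inferInstance, hT.1⟩, fun q hq _ => h1.trans ((Ideal.IsPrime.radical_le_iff hq.1).2 hq.2)⟩
  have h3 := Ideal.height_le_card_of_mem_minimalPrimes_span_finset h2
  have h4 : ((maximalIdeal A).height : WithBot ℕ∞) = ringKrullDim A :=
    IsLocalRing.maximalIdeal_height_eq_ringKrullDim
  rw [hd] at h4
  have h5 : (maximalIdeal A).height = (d : ℕ∞) := by exact_mod_cast h4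
  rw [h5] at h3
  exact_mod_cast h3


/-- **General parameters.** -/
theorem exists_params [IsNoetherianRing A] [Infinite (ResidueField A)] {d : ℕ} (hd : ringKrullDim A = d) :
    ∃ v : Fin d → A, (∀ i, v i ∈ maximalIdeal A) ∧
      IsReduction (Ideal.span (Set.range v)) (maximalIdeal A) ∧
      ∀ r : Fin d → A, ∑ i, r i * v i ∈ maximalIdeal A * maximalIdeal A → ∀ i, r i ∈ maximalIdeal A := by
  have : Infinite (A ⧸ maximalIdeal A) := ‹Infinite (ResidueField A)›
  obtain ⟨T, -, hTmin, -, hTind⟩ := Groth.Agent.Books.Reduction.exists_isMinimalReduction_le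
    (maximalIdeal A) (maximalIdeal A) (K437.IdealRed.isReduction_refl _)
  obtain ⟨x, hxT, hx⟩ := K437.IdealRed.exists_fin_ind T hTind
  rw [← hxT] at hTmin
  have hxm : ∀ i, x i ∈ maximalIdeal A := fun i => hTmin.1.1 (Ideal.subset_span ⟨i, rfl⟩)
  have hle : T.card ≤ d := le_dim hd.le x hxm fun D p hp hev m₀ =>
    K437.IdealRed.anInd_of_isMinimalReduction x hTmin hx D p hp hev m₀
  have hge : d ≤ T.card := le_card hd T (hxT ▸ hTmin.1)
  have hcard : T.card = d := le_antisymm hle hge
  subst hcard
  exact ⟨x, hxm, hTmin.1, hx⟩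


/-- A reduction of `b` generates the extension of `b` to a local domain in which `b` becomes principal and nonzero,
by one of the elements. -/
theorem exists_generator {A S : Type*} [CommRing A] [CommRing S] [IsDomain S] [IsLocalRing S] (φ : A →+* S)
    {t : ℕ} (v : Fin t → A) {b : Ideal A} (hred : IsReduction (Ideal.span (Set.range v)) b) {τ : S}
    (hτ : b.map φ = Ideal.span {τ}) (hτ0 : τ ≠ 0) : ∃ (i : Fin t) (u : S), IsUnit u ∧ φ (v i) = u * τ := by
  obtain ⟨s, hs⟩ := hred.2
  have h1 : ∀ i, ∃ u, φ (v i) = u * τ := fun i => by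
    have h2 : φ (v i) ∈ b.map φ := Ideal.mem_map_of_mem _ (hred.1 (Ideal.subset_span ⟨i, rfl⟩))
    rw [hτ, Ideal.mem_span_singleton'] at h2
    obtain ⟨u, hu⟩ := h2
    exact ⟨u, hu.symm⟩
  choose u hu using h1
  by_contra hcon
  push Not at hcon
  have hm : ∀ i, u i ∈ maximalIdeal S := fun i => by
    by_contra h3
    exact hcon i (u i) (by simpa [mem_maximalIdeal, mem_nonunits_iff] using h3) (hu i)
  have h2 : (Ideal.span (Set.range v)).map φ ≤ maximalIdeal S * Ideal.span {τ} := by
    rw [Ideal.map_span, Ideal.span_le]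
    rintro _ ⟨_, ⟨i, rfl⟩, rfl⟩
    rw [SetLike.mem_coe, hu i]
    exact Ideal.mul_mem_mul (hm i) (Ideal.mem_span_singleton_self τ)
  have h3 := congrArg (Ideal.map φ) hs
  rw [Ideal.map_mul, Ideal.map_pow, Ideal.map_pow, hτ, Ideal.span_singleton_pow, Ideal.span_singleton_pow] at h3
  have h4 : τ ^ (s + 1) ∈ maximalIdeal S * Ideal.span {τ} * Ideal.span {τ ^ s} := by
    have h5 : τ ^ (s + 1) ∈ Ideal.span {τ ^ (s + 1)} := Ideal.mem_span_singleton_self _
    rw [← h3] at h5
    exact Ideal.mul_mono_left h2 h5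
  rw [mul_assoc, Ideal.span_singleton_mul_span_singleton, ← pow_succ', Ideal.mem_mul_span_singleton] at h4
  obtain ⟨z, hz, hz2⟩ := h4
  have h5 : z = 1 := mul_right_cancel₀ (pow_ne_zero (s + 1) hτ0) (by rw [hz2, one_mul])
  exact (maximalIdeal.isMaximal S).ne_top ((Ideal.eq_top_iff_one _).2 (h5 ▸ hz))

end K577.Params
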