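import Groth.Agent.AdjLin.K577.SkodaCore

/-!
# The Skoda argument for monomial ideals

`Y` integral, `V` a nonempty open, `J`, `E i` effective Cartier ideals, `mon E e = ∏ E i ^ e i`; the lattices
`colon (mon E e) J` (`f J_y ⊆ (E^e)_y`).

* `skoda`: `e1 ≤ e0`, `h_1, …, h_d ∈ K` in `E^M` on `V`, generating `E^M` at the points of `V` lying on some `E i`
  with `e1 i < e0 i`. If `H^q(V, colon (E^(e1 + j M)) J) = 0 = H^q(V, colon (E^(e0 + j M)) J)` for `q ≥ 1`, `j < d`, then every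
  `f` with `f J ⊆ E^(e1 + d M)` on `V` is `∑ h_i c_i + g` with `c_i J ⊆ E^(e1 + (d-1) M)`, `g J ⊆ E^(e0 + d M)` on `V`.
* `exists_gen_of_span`: in a local domain, if `(h_i) = (τ)`, `τ ≠ 0`, then `τ` is a multiple of some `h_i`.
-/

set_option autoImplicit false
set_option linter.unusedSectionVars false
set_option linter.unusedVariables false
universe u
open CategoryTheory CategoryTheory.Limits AlgebraicGeometry TopologicalSpace Opposite

noncomputable section

namespace K577.Skoda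

open Groth.Agent Groth.Agent.Divis.CartierBasic K577.Lat K577.LatIdeal K577.SkodaCore

variable {Y : Scheme.{u}} [IsIntegral Y]

/-- Monomials in the ideals `E i`. -/
abbrev mon {Y : Scheme.{u}} {r : ℕ} (E : Fin r → Y.IdealSheafData) (e : Fin r → ℕ) : Y.IdealSheafData :=
  ∏ i, E i ^ e i

/-- In a local domain: if the `h i` generate the principal ideal `(τ)`, `τ ≠ 0`, then so does one of them. -/
theorem exists_gen_of_span {R : Type*} [CommRing R] [IsDomain R] [IsLocalRing R] {ι : Type*} [Finite ι] {h : ι → R}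
    {τ : R} (hτ : τ ≠ 0) (hh : Ideal.span (Set.range h) = Ideal.span {τ}) : ∃ i, ∃ r, τ = r * h i := by
  cases nonempty_fintype ι
  have h1 : ∀ i, ∃ s, h i = s * τ := fun i => by
    have h2 : h i ∈ Ideal.span {τ} := by
      rw [← hh]
      exact Ideal.subset_span ⟨i, rfl⟩
    obtain ⟨s, hs⟩ := Ideal.mem_span_singleton'.mp h2
    exact ⟨s, hs.symm⟩
  choose s hs using h1
  have h3 : τ ∈ Ideal.span (Set.range h) := by
    rw [hh]
    exact Ideal.mem_span_singleton_self τ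
  obtain ⟨c, hc⟩ := (Ideal.mem_span_range_iff_exists_fun).mp h3
  have h4 : ∑ i, c i * s i = 1 := by
    apply mul_right_cancel₀ hτ
    rw [one_mul, Finset.sum_mul]
    refine Eq.trans (Finset.sum_congr rfl fun i _ => ?_) hc
    rw [hs i, mul_assoc]
  obtain ⟨i, hi⟩ : ∃ i, IsUnit (s i) := by
    by_contra hne
    push Not at hne
    have h5 : ∑ i, c i * s i ∈ IsLocalRing.maximalIdeal R :=
      Ideal.sum_mem _ fun i _ => Ideal.mul_mem_left _ _ ((IsLocalRing.mem_maximalIdeal _).mpr (hne i))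
    rw [h4] at h5
    exact (Ideal.ne_top_iff_one _).mp (IsLocalRing.maximalIdeal.isMaximal R).ne_top h5
  obtain ⟨t, ht⟩ := hi.exists_left_inv
  exact ⟨i, t, by rw [hs i, ← mul_assoc, ht, one_mul]⟩

variable {r : ℕ} {E : Fin r → Y.IdealSheafData} {g : Fin r → Y → (Y.functionField)ˣ}

theorem isEff_mon (hE : ∀ i, BlowUp.IsEffCartierIdeal (E i)) (hg : ∀ i, IsGen (E i) (g i)) (e : Fin r → ℕ) :
    ∏ i, g i ^ e i ∈ CD Y :=
  (CD Y).prod_mem fun i _ => (CD Y).pow_mem ((hg i).mem_CD (hE i)) (e i)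

/-- The generator of `E^(e + j M)`. -/
theorem prod_pow_add (e M : Fin r → ℕ) (j : ℕ) : (∏ i, g i ^ (e + j • M) i : Y → (Y.functionField)ˣ) =
    (∏ i, g i ^ e i) * (∏ i, g i ^ M i) ^ j := by
  rw [← Finset.prod_pow, ← Finset.prod_mul_distrib]
  refine Finset.prod_congr rfl fun i _ => ?_
  rw [Pi.add_apply, Pi.smul_apply, smul_eq_mul, pow_add, mul_comm j, pow_mul]

theorem colon_mon {J : Y.IdealSheafData} {j : Y → (Y.functionField)ˣ} (hJ : IsGen J j) (hg : ∀ i, IsGen (E i) (g i))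
    (e M : Fin r → ℕ) (k : ℕ) : colon (mon E (e + k • M)) J =
      lat ((∏ i, g i ^ e i) / j * (∏ i, g i ^ M i) ^ (k : ℤ)) := by
  rw [colon_eq_lat (IsGen.prod_pow hg _) hJ, prod_pow_add, zpow_natCast, div_mul_eq_mul_div]

theorem lat_mono_of_le (hg : ∀ i, IsGen (E i) (g i)) (j : Y → (Y.functionField)ˣ) {e0 e1 : Fin r → ℕ} {y : Y}
    (h : ∀ i, e1 i ≤ e0 i ∨ y ∉ (E i).support) :
    lat ((∏ i, g i ^ e0 i) / j) y ≤ lat ((∏ i, g i ^ e1 i) / j) y := by
  rw [div_eq_mul_inv, div_eq_mul_inv]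
  refine lat_mul_mono _ ?_
  rw [(IsGen.prod_pow hg e0).lat_le_iff (IsGen.prod_pow hg e1)]
  have key : ∀ s : Finset (Fin r), stalkIdeal (∏ i ∈ s, E i ^ e0 i) y ≤ stalkIdeal (∏ i ∈ s, E i ^ e1 i) y := by
    classical
    intro s
    induction s using Finset.induction_on with
    | empty => simp
    | insert i s hi ih =>
      rw [Finset.prod_insert hi, Finset.prod_insert hi, stalkIdeal_mul, stalkIdeal_mul, stalkIdeal_pow, stalkIdeal_pow]
      refine Ideal.mul_mono ?_ ih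
      rcases h i with h1 | h1
      · exact Ideal.pow_le_pow_right h1
      · rw [(notMem_support_iff_stalkIdeal_eq_top _ _).mp h1, Ideal.top_pow, Ideal.top_pow]
  exact key Finset.univ

/-- **Skoda's theorem**, in terms of lattices. -/
theorem skoda {V : Y.Opens} (hV : genericPoint Y ∈ V) {J : Y.IdealSheafData} (hJ : BlowUp.IsEffCartierIdeal J)
    (hE : ∀ i, BlowUp.IsEffCartierIdeal (E i)) {e0 e1 M : Fin r → ℕ} (he : ∀ i, e1 i ≤ e0 i) {d : ℕ} (hd : 0 < d)
    (h : Fin d → Y.functionField)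
    (hh : ∀ i, ∀ y ∈ V, ∃ s ∈ stalkIdeal (mon E M) y, algebraMap (Y.presheaf.stalk y) Y.functionField s = h i)
    (hloc : ∀ y ∈ V, (∀ i, e1 i < e0 i → y ∉ (E i).support) ∨ ∃ i, ∀ s ∈ stalkIdeal (mon E M) y,
      ∃ t : Y.presheaf.stalk y, algebraMap (Y.presheaf.stalk y) Y.functionField s = algebraMap _ _ t * h i)
    (hA1 : ∀ j < d, ∀ q, 1 ≤ q → Subsingleton (Coh.HH (V : Scheme.{u}) (modR V (colon (mon E (e1 + j • M)) J)) q))
    (hA0 : ∀ j < d, ∀ q, 1 ≤ q → Subsingleton (Coh.HH (V : Scheme.{u}) (modR V (colon (mon E (e0 + j • M)) J)) q))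
    {f : Y.functionField} (hf : ∀ y ∈ V, f ∈ colon (mon E (e1 + d • M)) J y) :
    ∃ (c : Fin d → Y.functionField) (w : Y.functionField),
      (∀ i, ∀ y ∈ V, c i ∈ colon (mon E (e1 + (d - 1) • M)) J y) ∧
      (∀ y ∈ V, w ∈ colon (mon E (e0 + d • M)) J y) ∧ f = ∑ i, h i * c i + w := by
  obtain ⟨j, hj⟩ := exists_isGen hJ
  choose g hg using fun i => exists_isGen (hE i)
  have hm := isEff_mon hE hg M
  have hgM : IsGen (mon E M) (∏ i, g i ^ M i) := IsGen.prod_pow hg M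
  have hd' : ((d - 1 : ℕ) : ℤ) = (d : ℤ) - 1 := by omega
  have h1 := main hV (a := (∏ i, g i ^ e1 i) / j) (a' := (∏ i, g i ^ e0 i) / j) (m := ∏ i, g i ^ M i)
    ((CD Y).div_mem (isEff_mon hE hg e1) (hj.mem_CD hJ)) ((CD Y).div_mem (isEff_mon hE hg e0) (hj.mem_CD hJ)) hm
    (fun y _ => lat_mono_of_le hg j fun i => Or.inl (he i)) hd h
    (fun i y hy => (hgM.mem_lat_iff y).mpr (hh i y hy)) (fun y hy => ?_) (d - 1) ?_ ?_ (f := f) ?_
  · obtain ⟨c, w, hc, hw, e⟩ := h1
    refine ⟨c, w, fun i y hy => ?_, fun y hy => ?_, e⟩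
    · rw [colon_mon hj hg, hd']
      exact hc i y hy
    · rw [colon_mon hj hg]
      have h2 := hw y hy
      rwa [sub_add_cancel] at h2
  · rcases hloc y hy with h2 | ⟨i, hi⟩
    · refine Or.inl (lat_mono_of_le hg j fun i => ?_)
      by_cases h3 : e0 i ≤ e1 i
      · exact Or.inl h3
      · exact Or.inr (h2 i (by omega))
    · obtain ⟨s, hs, es⟩ := hgM y
      obtain ⟨t, ht⟩ := hi s (by rw [es]; exact Ideal.mem_span_singleton_self s)
      refine Or.inr ⟨i, ?_⟩
      rw [← hs, ht, ← Algebra.smul_def]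
      exact Submodule.smul_mem _ _ (Submodule.mem_span_singleton_self _)
  · intro k h1k hk
    have e : ((d : ℤ) - 1 - k) = ((d - 1 - k : ℕ) : ℤ) := by omega
    rw [e, ← colon_mon hj hg]
    exact hA1 _ (by omega) k h1k
  · intro k hk
    have e : ((d : ℤ) - 1 - k) = ((d - 1 - k : ℕ) : ℤ) := by omega
    rw [e, ← colon_mon hj hg]
    exact hA0 _ (by omega) (k + 1) (by omega)
  · intro y hy
    rw [sub_add_cancel, ← colon_mon hj hg]
    exact hf y hy

end K577.Skoda

end
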