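import Groth.Agent.AdjLin.K577.LatIdeal
import Groth.Agent.VarietyB.KoszulShift
import Mathlib.Algebra.Category.Grp.Abelian

/-!
# The Skoda argument for lattices in the function field

`X` integral, `V` a nonempty open, Cartier data `a`, `a'`, `m` with `lat a' ≤ lat a` on `V`; `h_1, …, h_d ∈ K` lying in
`lat m` on `V`, such that at every point of `V` one has `lat a' = lat a` or one of the `h_i` generates `lat m`.

* `main` (`exists_sum` for the cut off families): if `H^j(V, lat (a m^{n-j})) = 0`, `H^{j+1}(V, lat (a' m^{n-j})) = 0` for `1 ≤ j < d` and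
  `H^1(V, lat (a' m^n)) = 0`, then every `f ∈ Γ(V, lat (a m^{n+1}))` is `∑ h_i c_i + g` with
  `c_i ∈ Γ(V, lat (a m^n))`, `g ∈ Γ(V, lat (a' m^{n+1}))`.
-/

set_option autoImplicit false
set_option linter.unusedSectionVars false
set_option linter.unusedVariables false
universe u
open CategoryTheory CategoryTheory.Limits AlgebraicGeometry TopologicalSpace Opposite

noncomputable section

namespace K577.SkodaCore

open Groth.Agent Groth.Agent.CycB K475.GenStalk K756.LatSh K577.Lat K577.LatIdeal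
open Groth.Agent.VarietyB.KoszulCone Groth.Agent.VarietyB.KoszulShift Groth.Agent.Fga.HShift
open Groth.Agent.PerfB.ExactRestrict

/-! ### Generalities -/

theorem isIso_map_cokernel_map {C D : Type*} [Category* C] [Category* D] [Abelian C] [Abelian D] (F : C ⥤ D)
    [F.Additive] [PreservesFiniteColimits F] {M N M' N' : C} (f : M ⟶ N) (f' : M' ⟶ N') (p : M ⟶ M') (q : N ⟶ N')
    (w : f ≫ q = p ≫ f') (hp : IsIso (F.map p)) (hq : IsIso (F.map q)) : IsIso (F.map (cokernel.map f f' p q w)) := by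
  have w' : F.map f ≫ F.map q = F.map p ≫ F.map f' := by rw [← F.map_comp, w, F.map_comp]
  have h1 := preserves_cokernel_iso_comp_cokernel_map F f (g := f') p q w
  have h2 : IsIso (cokernel.map (F.map f) (F.map f') (F.map p) (F.map q) w') :=
    (cokernel.mapIso (F.map f) (F.map f') (asIso (F.map p)) (asIso (F.map q)) w').isIso_hom
  have h5 : IsIso (F.map (cokernel.map f f' p q w) ≫ (PreservesCokernel.iso F f').hom) := by
    rw [← h1]
    exact IsIso.comp_isIso
  exact IsIso.of_isIso_comp_right _ (PreservesCokernel.iso F f').hom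

theorem isZero_map_cokernel {C D : Type*} [Category* C] [Category* D] [Abelian C] [Abelian D] (F : C ⥤ D)
    [F.Additive] [PreservesFiniteColimits F] {M N : C} (f : M ⟶ N) (hf : IsIso (F.map f)) :
    IsZero (F.obj (cokernel f)) :=
  (isZero_cokernel_of_epi (F.map f)).of_iso (PreservesCokernel.iso F f)

variable {X : Scheme.{u}}

/-- Restriction to `V` and then to the part of `U` in `V`. -/
abbrev resF (V U : X.Opens) : X.Modules ⥤ ((V.ι ⁻¹ᵁ U : (V : Scheme.{u}).Opens) : Scheme.{u}).Modules :=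
  Scheme.Modules.restrictFunctor V.ι ⋙ Scheme.Modules.restrictFunctor (V.ι ⁻¹ᵁ U).ι

theorem isIso_resF {M N : X.Modules} (φ : M ⟶ N) (V U : X.Opens)
    (h : ∀ W : X.Opens, W ≤ U → Function.Bijective (φ.app W)) : IsIso ((resF V U).map φ) :=
  isIso_restrict _ _ fun W hW => h (V.ι ''ᵁ W) (by
    rintro _ ⟨y, hy, rfl⟩
    exact hW hy)

/-! ### Sections and `H^0` -/

/-- `H^0` is the group of global sections. -/
def h0sec (M : X.Modules) : (HHF X 0).obj M ≃+ Γ(M, ⊤) :=
  Sheaf.H.equiv₀ (Coh.toAb M) (T := (⊤ : X.Opens)) isTerminalTop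

theorem h0sec_map {M N : X.Modules} (φ : M ⟶ N) (x : (HHF X 0).obj M) :
    h0sec N ((HHF X 0).map φ x) = φ.app ⊤ (h0sec M x) :=
  (Sheaf.H.equiv₀_naturality (T := (⊤ : X.Opens)) isTerminalTop ((shAb X).map φ) x).symm

/-- Elements of `H^0` killed by an epimorphism come from the kernel. -/
theorem exists_of_map_eq_zero {T : ShortComplex X.Modules} (hT : T.ShortExact) (x : (HHF X 0).obj T.X₂)
    (hx : (HHF X 0).map T.g x = 0) : ∃ y, (HHF X 0).map T.f y = x := by
  obtain ⟨y, hy⟩ := Abelian.Ext.covariant_sequence_exact₂ (zSh X) (map_shortExact hT) x hx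
  exact ⟨y, hy⟩

variable [IsIntegral X] (V : X.Opens) (hV : genericPoint X ∈ V)

/-- The restriction of `mod P` to `V`. -/
abbrev modR (P : Fam X) : (V : Scheme.{u}).Modules := (Scheme.Modules.restrictFunctor V.ι).obj (mod P)

include hV in
theorem generic_mem_image : genericPoint X ∈ V.ι ''ᵁ ⊤ := by
  rw [Scheme.Opens.ι_image_top]
  exact hV

/-- `H^0(V, mod P)` as elements of the function field. -/
def h0 (P : Fam X) : (HHF (V : Scheme.{u}) 0).obj (modR V P) ≃+ secs (V.ι ''ᵁ ⊤) P :=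
  (h0sec (modR V P)).trans (secEquiv (V.ι ''ᵁ ⊤) (generic_mem_image V hV) P)

theorem h0_map {P P' : Fam X} (h : X.functionField) (H : ∀ x, ∀ w ∈ P x, h * w ∈ P' x)
    (t : (HHF (V : Scheme.{u}) 0).obj (modR V P)) :
    (h0 V hV P' ((HHF (V : Scheme.{u}) 0).map ((Scheme.Modules.restrictFunctor V.ι).map (mor h H)) t) :
      X.functionField) = h * h0 V hV P t := by
  change (secEquiv (V.ι ''ᵁ ⊤) (generic_mem_image V hV) P' (h0sec (modR V P') _) : X.functionField) = _
  rw [h0sec_map]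
  rfl

theorem mem_secs_image {P : Fam X} {f : X.functionField} : f ∈ secs (V.ι ''ᵁ ⊤) P ↔ f ∈ secs V P := by
  rw [Scheme.Opens.ι_image_top]

theorem mem_h0 (P : Fam X) (t : (HHF (V : Scheme.{u}) 0).obj (modR V P)) :
    (h0 V hV P t : X.functionField) ∈ secs V P := (mem_secs_image V).mp (h0 V hV P t).2

theorem exists_h0 {P : Fam X} {f : X.functionField} (hf : f ∈ secs V P) :
    ∃ t, (h0 V hV P t : X.functionField) = f :=
  ⟨(h0 V hV P).symm ⟨f, (mem_secs_image V).mpr hf⟩, by rw [AddEquiv.apply_symm_apply]⟩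

/-! ### The family of cokernels -/

section Core

/-- The family `P` on `V`, everything outside `V`. -/
def cut (V : X.Opens) (P : Fam X) : Fam X := fun x =>
  { carrier := {w | x ∈ V → w ∈ P x}
    zero_mem' := fun _ => (P x).zero_mem
    add_mem' := fun hf hg hx => (P x).add_mem (hf hx) (hg hx)
    smul_mem' := fun c _ hf hx => (P x).smul_mem c (hf hx) }

theorem mem_cut {V : X.Opens} {P : Fam X} {x : X} {w : X.functionField} : w ∈ cut V P x ↔ (x ∈ V → w ∈ P x) := Iff.rfl

theorem secs_cut (P : Fam X) : secs V (cut V P) = secs V P := by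
  ext f
  exact ⟨fun h y hy => h y hy hy, fun h y hy _ => h y hy⟩

/-- Nothing changes on `V`. -/
def cutIso (P : Fam X) : modR V (cut V P) ≅ modR V P :=
  restrictIso V fun y hy => Submodule.ext fun w => ⟨fun h => h hy, fun h _ => h⟩

/-- The lattices. -/
abbrev L (V : X.Opens) (a m : X → (X.functionField)ˣ) (n : ℤ) : Fam X := cut V (lat (a * m ^ n))

variable {V}

theorem mul_zpow_succ (a m : X → (X.functionField)ˣ) (n : ℤ) : m * (a * m ^ n) = a * m ^ (n + 1) := by
  rw [zpow_add_one, mul_left_comm, mul_comm m]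

theorem L_mul {a m : X → (X.functionField)ˣ} {t : X.functionField} (ht : ∀ x ∈ V, t ∈ lat m x) (n : ℤ) (x : X)
    (w : X.functionField) (hw : w ∈ L V a m n x) : t * w ∈ L V a m (n + 1) x := by
  intro hx
  have h1 := mul_mem_lat_mul (ht x hx) (hw hx)
  rwa [mul_zpow_succ] at h1

theorem L_le {a a' m : X → (X.functionField)ˣ} (hle : ∀ x ∈ V, lat a' x ≤ lat a x) (n : ℤ) (x : X) :
    L V a' m n x ≤ L V a m n x := fun _ hw hx => lat_mul_mono _ (hle x hx) (hw hx)

variable {a a' m : X → (X.functionField)ˣ} {d : ℕ} {h : Fin d → X.functionField}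
  (hle : ∀ x ∈ V, lat a' x ≤ lat a x) (hh : ∀ i, ∀ x ∈ V, h i ∈ lat m x)

/-- The inclusions. -/
abbrev inc (m : X → (X.functionField)ˣ) (hle : ∀ x ∈ V, lat a' x ≤ lat a x) (n : ℤ) : mod (L V a' m n) ⟶ mod (L V a m n) :=
  incl (L_le hle n)

/-- The multiplications. -/
abbrev mu (a : X → (X.functionField)ˣ) (hh : ∀ i, ∀ x ∈ V, h i ∈ lat m x) (i : Fin d) (n : ℤ) :
    mod (L V a m n) ⟶ mod (L V a m (n + 1)) := mor (h i) (L_mul (hh i) n)

theorem inc_mu (i : Fin d) (n : ℤ) : inc m hle n ≫ mu a hh i n = mu a' hh i n ≫ inc m hle (n + 1) :=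
  incl_comp_mor _ _ _ _ _

theorem mu_mu (i j : Fin d) (n : ℤ) : mu a hh i n ≫ mu a hh j (n + 1) = mu a hh j n ≫ mu a hh i (n + 1) :=
  mor_comm _ _ _ _ _ _

/-- The operators on the cokernels. -/
def xG (i : Fin d) (n : ℤ) : cokernel (inc m hle n) ⟶ cokernel (inc m hle (n + 1)) :=
  cokernel.map _ _ (mu a' hh i n) (mu a hh i n) (inc_mu hle hh i n)

theorem pi_xG (i : Fin d) (n : ℤ) :
    cokernel.π (inc m hle n) ≫ xG hle hh i n = mu a hh i n ≫ cokernel.π (inc m hle (n + 1)) := cokernel.π_desc _ _ _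

/-- The cokernels of `mod (L V a' m n) ⟶ mod (L V a m n)` with the operators `h_i`. -/
def G : GrOp X.Modules d where
  obj n := cokernel (inc m hle n)
  x i n := xG hle hh i n
  comm i j n := by
    rw [← cancel_epi (cokernel.π _), ← Category.assoc, ← Category.assoc, pi_xG, pi_xG, Category.assoc, Category.assoc,
      pi_xG, pi_xG, ← Category.assoc, ← Category.assoc, mu_mu]

/-- The short exact sequences. -/
abbrev seq (m : X → (X.functionField)ˣ) (hle : ∀ x ∈ V, lat a' x ≤ lat a x) (n : ℤ) : ShortComplex X.Modules :=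
  ShortComplex.mk (inc m hle n) (cokernel.π _) (cokernel.condition _)

theorem seq_shortExact (n : ℤ) : (seq m hle n).ShortExact where
  exact := ShortComplex.exact_cokernel _
  mono_f := mono_incl (L_le hle n)
  epi_g := inferInstanceAs (Epi (cokernel.π _))

/-- The cokernels, restricted to `V`. -/
abbrev Q (m : X → (X.functionField)ˣ) (hle : ∀ x ∈ V, lat a' x ≤ lat a x) (n : ℤ) : (V : Scheme.{u}).Modules :=
  (Scheme.Modules.restrictFunctor V.ι).obj (cokernel (inc m hle n))

/-- The projections, restricted to `V`. -/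
def pr (m : X → (X.functionField)ˣ) (hle : ∀ x ∈ V, lat a' x ≤ lat a x) (n : ℤ) : modR V (L V a m n) ⟶ Q m hle n :=
  (Scheme.Modules.restrictFunctor V.ι).map (cokernel.π _)

/-- The inclusions, restricted to `V`. -/
def ic (m : X → (X.functionField)ˣ) (hle : ∀ x ∈ V, lat a' x ≤ lat a x) (n : ℤ) :
    modR V (L V a' m n) ⟶ modR V (L V a m n) := (Scheme.Modules.restrictFunctor V.ι).map (inc m hle n)

/-- The multiplications, restricted to `V`. -/
def muR (a : X → (X.functionField)ˣ) (hh : ∀ i, ∀ x ∈ V, h i ∈ lat m x) (i : Fin d) (n : ℤ) :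
    modR V (L V a m n) ⟶ modR V (L V a m (n + 1)) := (Scheme.Modules.restrictFunctor V.ι).map (mu a hh i n)

/-- The operators on the cokernels, restricted to `V`. -/
def xR (hle : ∀ x ∈ V, lat a' x ≤ lat a x) (hh : ∀ i, ∀ x ∈ V, h i ∈ lat m x) (i : Fin d) (n : ℤ) :
    Q m hle n ⟶ Q m hle (n + 1) := (Scheme.Modules.restrictFunctor V.ι).map (xG hle hh i n)

theorem muR_pr (i : Fin d) (n : ℤ) : muR a hh i n ≫ pr m hle (n + 1) = pr m hle n ≫ xR hle hh i n := by
  unfold muR pr xR
  rw [← Functor.map_comp, ← Functor.map_comp, pi_xG]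

/-- The short exact sequences, restricted to `V`. -/
abbrev seqR (m : X → (X.functionField)ˣ) (hle : ∀ x ∈ V, lat a' x ≤ lat a x) (n : ℤ) :
    ShortComplex (V : Scheme.{u}).Modules :=
  ShortComplex.mk (ic m hle n) (pr m hle n) (by
    unfold ic pr
    rw [← Functor.map_comp, cokernel.condition, Functor.map_zero])

theorem seqR_shortExact (n : ℤ) : (seqR m hle n).ShortExact :=
  (seq_shortExact hle n).map_of_exact (Scheme.Modules.restrictFunctor V.ι)

theorem pr_muR (i : Fin d) (n : ℤ) (s : (HHF (V : Scheme.{u}) 0).obj (modR V (L V a m n))) :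
    (HHF (V : Scheme.{u}) 0).map (pr m hle (n + 1)) ((HHF (V : Scheme.{u}) 0).map (muR a hh i n) s) =
      (HHF (V : Scheme.{u}) 0).map (xR hle hh i n) ((HHF (V : Scheme.{u}) 0).map (pr m hle n) s) := by
  rw [← ConcreteCategory.comp_apply, ← ConcreteCategory.comp_apply, ← Functor.map_comp, ← Functor.map_comp, muR_pr]

theorem h0_muR (i : Fin d) (n : ℤ) (s : (HHF (V : Scheme.{u}) 0).obj (modR V (L V a m n))) :
    (h0 V hV _ ((HHF (V : Scheme.{u}) 0).map (muR a hh i n) s) : X.functionField) = h i * h0 V hV _ s :=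
  h0_map V hV _ _ s

theorem h0_ic (n : ℤ) (s : (HHF (V : Scheme.{u}) 0).obj (modR V (L V a' m n))) :
    (h0 V hV _ ((HHF (V : Scheme.{u}) 0).map (ic m hle n) s) : X.functionField) = h0 V hV _ s :=
  (h0_map V hV 1 _ s).trans (one_mul _)

/-- `t` generates `m` near `y` if it does so at `y`. -/
theorem exists_open_gen (hm : m ∈ CD X) {t : X.functionField} {y : X} (h1 : t ∈ lat m y)
    (h2 : (m y : X.functionField) ∈ Submodule.span (X.presheaf.stalk y) {t}) :
    ∃ (s : (X.functionField)ˣ) (U : X.Opens), (s : X.functionField) = t ∧ y ∈ U ∧ ∀ z ∈ U, m z / s ∈ unitR z := by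
  have ht : t ≠ 0 := by
    rintro rfl
    rw [Submodule.span_zero_singleton, Submodule.mem_bot] at h2
    exact Units.ne_zero _ h2
  let s : (X.functionField)ˣ := Units.mk0 t ht
  have e1 : lat m y = lat (fun _ => s) y := le_antisymm (lat_le_iff.mpr h2)
    (Submodule.span_le.mpr (by rintro _ rfl; exact h1))
  obtain ⟨U, hU, h3⟩ := hm y
  obtain ⟨U', hU', h4⟩ := exists_open_unitR (lat_eq_iff.mp e1)
  refine ⟨s, U ⊓ U', rfl, ⟨hU, hU'⟩, fun z hz => ?_⟩
  rw [← div_mul_div_cancel (m z) (m y) s]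
  exact (unitR z).mul_mem (h3 z hz.1) (h4 z hz.2)

theorem bijective_mu {i : Fin d} {U : X.Opens} {s : (X.functionField)ˣ} (hs : (s : X.functionField) = h i)
    (hU : ∀ z ∈ U, m z / s ∈ unitR z) (n : ℤ) (W : X.Opens) (hW : W ≤ U) :
    Function.Bijective ((mu a hh i n).app W) := by
  refine bijective_mor_app (by rw [← hs]; exact Units.ne_zero s) _ fun y hy w hw => ?_
  refine ⟨(s : X.functionField)⁻¹ * w, fun hyV => ?_, by rw [← hs, mul_inv_cancel_left₀ (Units.ne_zero s)]⟩
  have e : lat (a * m ^ (n + 1)) y = lat ((fun _ => s) * (a * m ^ n)) y := by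
    refine lat_congr ?_
    have e2 : (m * (a * m ^ n)) y / ((fun _ => s : X → (X.functionField)ˣ) * (a * m ^ n)) y = m y / s :=
      mul_div_mul_right_eq_div (m y) s ((a * m ^ n) y)
    rw [← mul_zpow_succ, e2]
    exact hU y (hW hy)
  have h1 : w ∈ lat ((fun _ => s) * (a * m ^ n)) y := by
    rw [← e]
    exact hw hyV
  have h2 : w = (s : X.functionField) * ((s : X.functionField)⁻¹ * w) :=
    (mul_inv_cancel_left₀ (Units.ne_zero s) w).symm
  rw [h2] at h1
  exact mul_mem_lat_iff (g := fun _ => s) |>.mp h1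

theorem locInv (ha : a ∈ CD X) (ha' : a' ∈ CD X) (hm : m ∈ CD X) (hd : 0 < d)
    (hloc : ∀ y ∈ V, lat a y ≤ lat a' y ∨ ∃ i, (m y : X.functionField) ∈ Submodule.span (X.presheaf.stalk y) {h i}) :
    LocInv ((G hle hh).map (Scheme.Modules.restrictFunctor V.ι)) := by
  intro x
  rcases hloc (V.ι x) x.2 with h1 | ⟨i, hi⟩
  · obtain ⟨U, hU, h2⟩ := exists_open_lat_le ha ha' h1
    have key : ∀ n, IsZero ((resF V U).obj ((G hle hh).obj n)) := fun n =>
      isZero_map_cokernel (resF V U) (inc m hle n) (isIso_resF _ V U fun W hW =>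
        bijective_mor_app one_ne_zero _ fun y hy w hw =>
          ⟨w, fun hyV => lat_mul_mono _ (h2 y (hW hy)) (hw hyV), one_mul _⟩)
    refine ⟨V.ι ⁻¹ᵁ U, ⟨0, hd⟩, hU, fun n => ?_⟩
    exact ⟨0, (key n).eq_of_src _ _, (key (n + 1)).eq_of_src _ _⟩
  · obtain ⟨s, U, hs, hU, h2⟩ := exists_open_gen hm (hh i _ x.2) hi
    refine ⟨V.ι ⁻¹ᵁ U, i, hU, fun n => ?_⟩
    exact isIso_map_cokernel_map (resF V U) _ _ _ _ (inc_mu hle hh i n)
      (isIso_resF _ V U (bijective_mu hh hs h2 n)) (isIso_resF _ V U (bijective_mu hh hs h2 n))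

include hV hle hh in
/-- **The Skoda argument.** -/
theorem exists_sum (ha : a ∈ CD X) (ha' : a' ∈ CD X) (hm : m ∈ CD X) (hd : 0 < d)
    (hloc : ∀ y ∈ V, lat a y ≤ lat a' y ∨ ∃ i, (m y : X.functionField) ∈ Submodule.span (X.presheaf.stalk y) {h i})
    (n : ℤ)
    (hA : ∀ j : ℕ, 1 ≤ j → j < d → Subsingleton (Coh.HH (V : Scheme.{u}) (modR V (L V a m (n - j))) j))
    (hA' : ∀ j : ℕ, j < d → Subsingleton (Coh.HH (V : Scheme.{u}) (modR V (L V a' m (n - j))) (j + 1)))
    {f : X.functionField} (hf : f ∈ secs V (L V a m (n + 1))) :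
    ∃ (c : Fin d → X.functionField) (g : X.functionField), (∀ i, c i ∈ secs V (L V a m n)) ∧
      g ∈ secs V (L V a' m (n + 1)) ∧ f = ∑ i, h i * c i + g := by
  have hK : LocInv ((G hle hh).map (Scheme.Modules.restrictFunctor V.ι)) := locInv hle hh ha ha' hm hd hloc
  have hvan : ∀ j : ℕ, 1 ≤ j → j < d → Subsingleton (Coh.HH (V : Scheme.{u}) (Q m hle (n + 1 - 1 - j)) j) := by
    intro j h1 hj
    have e : n + 1 - 1 - (j : ℤ) = n - j := by ring
    rw [e]
    exact subsingleton₃ (seqR_shortExact hle (n - j)) j (hA j h1 hj) (hA' j hj)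
  -- `S k t`: if `k = n + 1`, then `t` has a lift of the required form
  let S : ∀ k : ℤ, (HHF (V : Scheme.{u}) 0).obj (Q m hle k) → Prop := fun k t =>
    k = n + 1 → ∃ s : (HHF (V : Scheme.{u}) 0).obj (modR V (L V a m k)),
      (HHF (V : Scheme.{u}) 0).map (pr m hle k) s = t ∧ ∃ c : Fin d → X.functionField,
        (∀ i, c i ∈ secs V (L V a m n)) ∧ (h0 V hV _ s : X.functionField) = ∑ i, h i * c i
  have key : ∀ t, S (n + 1) t := by
    refine forall_H0 ((G hle hh).map (Scheme.Modules.restrictFunctor V.ι)) hK (n + 1) hvan S ?_ ?_ ?_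
    · intro k s t hs ht hk
      obtain ⟨s', hs', c, hc, ec⟩ := hs hk
      obtain ⟨t', ht', c', hc', ec'⟩ := ht hk
      refine ⟨s' + t', ?_, c + c', fun i => (secs V _).add_mem (hc i) (hc' i), ?_⟩
      · exact (map_add ((HHF (V : Scheme.{u}) 0).map (pr m hle k)).hom s' t').trans (congrArg₂ _ hs' ht')
      · rw [map_add, AddSubgroup.coe_add, ec, ec', ← Finset.sum_add_distrib]
        exact Finset.sum_congr rfl fun i _ => (mul_add _ _ _).symm
    · intro k hk
      refine ⟨0, map_zero ((HHF (V : Scheme.{u}) 0).map (pr m hle k)).hom, 0, fun i => (secs V _).zero_mem, ?_⟩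
      rw [map_zero]
      exact (Finset.sum_eq_zero fun i _ => mul_zero _).symm
    · intro i k t hk
      obtain rfl : k = n := by omega
      obtain ⟨s, rfl⟩ := surjective_of_shortExact (seqR_shortExact hle k) (by simpa using hA' 0 hd) t
      refine ⟨(HHF (V : Scheme.{u}) 0).map (muR a hh i k) s, pr_muR hle hh i k s,
        fun j => if j = i then h0 V hV _ s else 0, fun j => ?_, ?_⟩
      · beta_reduce
        split_ifs
        · exact mem_h0 V hV _ s
        · exact (secs V _).zero_mem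
      · rw [h0_muR]
        simp
  obtain ⟨sf, rfl⟩ := exists_h0 V hV hf
  obtain ⟨s, hs, c, hc, ec⟩ := key ((HHF (V : Scheme.{u}) 0).map (pr m hle (n + 1)) sf) rfl
  obtain ⟨y, hy⟩ := exists_of_map_eq_zero (seqR_shortExact hle (n + 1)) (sf - s)
    ((map_sub ((HHF (V : Scheme.{u}) 0).map (pr m hle (n + 1))).hom sf s).trans (sub_eq_zero.mpr hs.symm))
  refine ⟨c, h0 V hV _ y, hc, mem_h0 V hV _ y, ?_⟩
  have e1 : (h0 V hV _ (sf - s) : X.functionField) = h0 V hV _ y := by
    rw [← hy]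
    exact h0_ic hV hle (n + 1) y
  rw [map_sub, AddSubgroup.coe_sub, ec] at e1
  rw [← e1]
  ring

end Core

/-- **The Skoda argument**, for the lattices themselves. -/
theorem main {V : X.Opens} (hV : genericPoint X ∈ V) {a a' m : X → (X.functionField)ˣ} (ha : a ∈ CD X)
    (ha' : a' ∈ CD X) (hm : m ∈ CD X) (hle : ∀ x ∈ V, lat a' x ≤ lat a x) {d : ℕ} (hd : 0 < d)
    (h : Fin d → X.functionField) (hh : ∀ i, ∀ x ∈ V, h i ∈ lat m x)
    (hloc : ∀ y ∈ V, lat a y ≤ lat a' y ∨ ∃ i, (m y : X.functionField) ∈ Submodule.span (X.presheaf.stalk y) {h i})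
    (n : ℤ)
    (hA : ∀ j : ℕ, 1 ≤ j → j < d → Subsingleton (Coh.HH (V : Scheme.{u}) (modR V (lat (a * m ^ (n - j)))) j))
    (hA' : ∀ j : ℕ, j < d → Subsingleton (Coh.HH (V : Scheme.{u}) (modR V (lat (a' * m ^ (n - j)))) (j + 1)))
    {f : X.functionField} (hf : ∀ y ∈ V, f ∈ lat (a * m ^ (n + 1)) y) :
    ∃ (c : Fin d → X.functionField) (g : X.functionField), (∀ i, ∀ y ∈ V, c i ∈ lat (a * m ^ n) y) ∧
      (∀ y ∈ V, g ∈ lat (a' * m ^ (n + 1)) y) ∧ f = ∑ i, h i * c i + g := by
  obtain ⟨c, g, hc, hg, e⟩ := exists_sum hV hle hh ha ha' hm hd hloc n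
    (fun j h1 hj => subsingleton_of_iso (cutIso V _).symm j (hA j h1 hj))
    (fun j hj => subsingleton_of_iso (cutIso V _).symm (j + 1) (hA' j hj)) (f := f)
    (by rw [secs_cut]; exact hf)
  refine ⟨c, g, fun i => ?_, ?_, e⟩
  · have h1 := hc i
    rwa [secs_cut] at h1
  · rwa [secs_cut] at hg

end K577.SkodaCore

end
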